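import Mathlib

/-!
# Čech `H⁰` of the open `⋃ D(t_j)` of `Spec R` (helper14)

`cech t` is the subring of `∏ⱼ R_{t_j}` of compatible families.
-/

set_option autoImplicit false
universe u

namespace Groth.Agent.Lib.Helper14.Punct

open IsLocalization

variable {R : Type u} [CommRing R] {ι : Type} (t : ι → R)

/-- first localisation -/
abbrev L (j : ι) : Type u := Localization.Away (t j)
/-- double localisation -/
abbrev L2 (j k : ι) : Type u := Localization.Away (t j * t k)

/-- restriction `R_{t_j} → R_{t_j t_k}` -/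
noncomputable def ρ (j k : ι) : L t j →+* L2 t j k :=
  Away.awayToAwayRight (t j) (t k)
/-- restriction `R_{t_k} → R_{t_j t_k}` -/
noncomputable def lam (j k : ι) : L t k →+* L2 t j k :=
  Away.awayToAwayLeft (t k) (t j)

@[simp] theorem ρ_algebraMap (j k : ι) (a : R) :
    ρ t j k (algebraMap R (L t j) a) = algebraMap R (L2 t j k) a :=
  Away.awayToAwayRight_eq _ _ _
@[simp] theorem lam_algebraMap (j k : ι) (a : R) :
    lam t j k (algebraMap R (L t k) a) = algebraMap R (L2 t j k) a :=
  Away.awayToAwayLeft_eq _ _ _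

/-- The Čech `H⁰`. -/
noncomputable def cech : Subring (∀ j, L t j) where
  carrier := {d | ∀ j k, ρ t j k (d j) = lam t j k (d k)}
  mul_mem' := by
    intro a b ha hb j k
    simp only [Pi.mul_apply, map_mul, ha j k, hb j k]
  one_mem' := by intro j k; simp
  add_mem' := by
    intro a b ha hb j k
    simp only [Pi.add_apply, map_add, ha j k, hb j k]
  zero_mem' := by intro j k; simp
  neg_mem' := by
    intro a ha j k
    simp only [Pi.neg_apply, map_neg, ha j k]

theorem mem_cech {d : ∀ j, L t j} : d ∈ cech t ↔ ∀ j k, ρ t j k (d j) = lam t j k (d k) := Iff.rfl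

/-- `e` is represented by numerators `α` over the denominators `t_j ^ n`. -/
def IsRep (e : ∀ j, L t j) (n : ℕ) (α : ι → R) : Prop :=
  ∀ j, e j * algebraMap R (L t j) (t j ^ n) = algebraMap R (L t j) (α j)

theorem isUnit_pow (j : ι) (n : ℕ) : IsUnit (algebraMap R (L t j) (t j ^ n)) := by
  rw [map_pow]; exact Away.algebraMap_pow_isUnit _ _

theorem isUnit2_left (j k : ι) (n : ℕ) : IsUnit (algebraMap R (L2 t j k) (t j ^ n)) := by
  rw [map_pow]
  refine IsUnit.pow _ (isUnit_of_dvd_unit ?_ (Away.algebraMap_isUnit (S := L2 t j k) (t j * t k)))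
  rw [map_mul]; exact dvd_mul_right _ _

theorem isUnit2_right (j k : ι) (n : ℕ) : IsUnit (algebraMap R (L2 t j k) (t k ^ n)) := by
  rw [map_pow]
  refine IsUnit.pow _ (isUnit_of_dvd_unit ?_ (Away.algebraMap_isUnit (S := L2 t j k) (t j * t k)))
  rw [map_mul]; exact dvd_mul_left _ _

theorem IsRep.ext {e e' : ∀ j, L t j} {n : ℕ} {α : ι → R} (h : IsRep t e n α)
    (h' : IsRep t e' n α) : e = e' := by
  funext j
  exact (isUnit_pow t j n).mul_left_injective ((h j).trans (h' j).symm)

/-- the family with given numerators -/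
noncomputable def frac (n : ℕ) (α : ι → R) : ∀ j, L t j := fun j =>
  IsLocalization.mk' (L t j) (α j) (⟨t j ^ n, ⟨n, rfl⟩⟩ : Submonoid.powers (t j))

theorem isRep_frac (n : ℕ) (α : ι → R) : IsRep t (frac t n α) n α := fun j =>
  IsLocalization.mk'_spec _ _ _

theorem IsRep.eq_frac {e : ∀ j, L t j} {n : ℕ} {α : ι → R} (h : IsRep t e n α) :
    e = frac t n α := h.ext t (isRep_frac t n α)

theorem exists_rep [Finite ι] (e : ∀ j, L t j) : ∃ n α, IsRep t e n α := by
  classical
  haveI := Fintype.ofFinite ι
  choose n a h using fun j => Away.surj (t j) (e j)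
  refine ⟨Finset.univ.sup n, fun j => t j ^ (Finset.univ.sup n - n j) * a j, fun j => ?_⟩
  have hle : n j ≤ Finset.univ.sup n := Finset.le_sup (Finset.mem_univ j)
  rw [map_mul, ← h j, ← map_pow, mul_left_comm, ← map_mul, ← pow_add,
    Nat.sub_add_cancel hle]

theorem mem_cech_iff_of_rep {e : ∀ j, L t j} {n : ℕ} {α : ι → R} (h : IsRep t e n α) :
    e ∈ cech t ↔ ∀ j k, ∃ M : ℕ, (t j * t k) ^ M * (t k ^ n * α j) =
      (t j * t k) ^ M * (t j ^ n * α k) := by
  rw [mem_cech]
  refine forall_congr' fun j => forall_congr' fun k => ?_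
  have h1 : ρ t j k (e j) * (algebraMap R (L2 t j k) (t j ^ n) * algebraMap R (L2 t j k) (t k ^ n))
      = algebraMap R (L2 t j k) (t k ^ n * α j) := by
    rw [← mul_assoc, ← ρ_algebraMap t j k (t j ^ n), ← map_mul, h j, ρ_algebraMap, ← map_mul,
      show α j * t k ^ n = t k ^ n * α j from mul_comm _ _]
  have h2 : lam t j k (e k) *
      (algebraMap R (L2 t j k) (t j ^ n) * algebraMap R (L2 t j k) (t k ^ n))
      = algebraMap R (L2 t j k) (t j ^ n * α k) := by
    rw [mul_comm (algebraMap R (L2 t j k) (t j ^ n)), ← mul_assoc,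
      ← lam_algebraMap t j k (t k ^ n), ← map_mul, h k, lam_algebraMap, ← map_mul,
      show α k * t j ^ n = t j ^ n * α k from mul_comm _ _]
  have hu : IsUnit (algebraMap R (L2 t j k) (t j ^ n) * algebraMap R (L2 t j k) (t k ^ n)) :=
    (isUnit2_left t j k n).mul (isUnit2_right t j k n)
  constructor
  · intro heq
    have : algebraMap R (L2 t j k) (t k ^ n * α j) = algebraMap R (L2 t j k) (t j ^ n * α k) := by
      rw [← h1, ← h2, heq]
    exact Away.exists_of_eq (t j * t k) this
  · rintro ⟨M, hM⟩
    apply hu.mul_left_injective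
    show ρ t j k (e j) * _ = lam t j k (e k) * _
    rw [h1, h2]
    have hu' : IsUnit (algebraMap R (L2 t j k) ((t j * t k) ^ M)) := by
      rw [map_pow]; exact Away.algebraMap_pow_isUnit _ _
    apply hu'.mul_right_injective
    show algebraMap R (L2 t j k) ((t j * t k) ^ M) * _ = algebraMap R (L2 t j k) ((t j * t k) ^ M) * _
    rw [← map_mul, ← map_mul, hM]

/-- constants -/
noncomputable def const : R →+* cech t where
  toFun r := ⟨fun j => algebraMap R (L t j) r, fun j k => by simp⟩
  map_one' := by ext j; simp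
  map_mul' a b := by ext j; simp
  map_zero' := by ext j; simp
  map_add' a b := by ext j; simp

@[simp] theorem const_apply (r : R) (j : ι) : (const t r : ∀ j, L t j) j = algebraMap R (L t j) r :=
  rfl

noncomputable instance : Algebra R (cech t) := (const t).toAlgebra

theorem algebraMap_cech_apply (r : R) (j : ι) :
    (algebraMap R (cech t) r : ∀ j, L t j) j = algebraMap R (L t j) r := rfl

theorem smul_cech_apply (r : R) (d : cech t) (j : ι) :
    ((r • d : cech t) : ∀ j, L t j) j = algebraMap R (L t j) r * (d : ∀ j, L t j) j := by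
  rw [Algebra.smul_def]; rfl

end Groth.Agent.Lib.Helper14.Punct
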