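import Mathlib
import Groth.Agent.Lib.Helper14.Punct.CechA

/-!
# Idempotents of the Čech `H⁰` and connectedness of `⋃ D(t_j)` (helper14)
-/

set_option autoImplicit false
universe u

namespace Groth.Agent.Lib.Helper14.Punct

open IsLocalization PrimeSpectrum

variable {R : Type u} [CommRing R] {ι : Type} (t : ι → R)

/-- The open set `⋃ D(t_j)`. -/
def punct : Set (PrimeSpectrum R) := ⋃ j, (basicOpen (t j) : Set (PrimeSpectrum R))

/-- inclusion of `Spec R_{t_j}` -/
noncomputable def c (j : ι) : PrimeSpectrum (L t j) → PrimeSpectrum R :=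
  comap (algebraMap R (L t j))
/-- inclusion of `Spec R_{t_j t_k}` -/
noncomputable def c2 (j k : ι) : PrimeSpectrum (L2 t j k) → PrimeSpectrum R :=
  comap (algebraMap R (L2 t j k))

theorem c_isOpenEmbedding (j : ι) : Topology.IsOpenEmbedding (c t j) :=
  localization_away_isOpenEmbedding (L t j) (t j)

theorem range_c (j : ι) : Set.range (c t j) = (basicOpen (t j) : Set (PrimeSpectrum R)) :=
  localization_away_comap_range (L t j) (t j)

theorem range_c2 (j k : ι) :
    Set.range (c2 t j k) = (basicOpen (t j * t k) : Set (PrimeSpectrum R)) :=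
  localization_away_comap_range (L2 t j k) (t j * t k)

theorem c_comap_ρ (j k : ι) (P : PrimeSpectrum (L2 t j k)) :
    c t j (comap (ρ t j k) P) = c2 t j k P := by
  apply PrimeSpectrum.ext
  ext a
  simp only [c, c2, comap_asIdeal, Ideal.mem_comap, ρ_algebraMap]

theorem c_comap_lam (j k : ι) (P : PrimeSpectrum (L2 t j k)) :
    c t k (comap (lam t j k) P) = c2 t j k P := by
  apply PrimeSpectrum.ext
  ext a
  simp only [c, c2, comap_asIdeal, Ideal.mem_comap, lam_algebraMap]

theorem range_c_subset (j : ι) : Set.range (c t j) ⊆ punct t := by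
  rw [range_c]; exact Set.subset_iUnion (fun j => (basicOpen (t j) : Set (PrimeSpectrum R))) j

theorem exists_of_mem_punct {p : PrimeSpectrum R} (hp : p ∈ punct t) :
    ∃ j, ∃ P : PrimeSpectrum (L t j), c t j P = p := by
  obtain ⟨j, hj⟩ := Set.mem_iUnion.mp hp
  rw [← range_c] at hj
  exact ⟨j, hj⟩

/-- common point in the double overlap -/
theorem exists_common {j k : ι} (P : PrimeSpectrum (L t j)) (Q : PrimeSpectrum (L t k))
    (h : c t j P = c t k Q) :
    ∃ P' : PrimeSpectrum (L2 t j k), comap (ρ t j k) P' = P ∧ comap (lam t j k) P' = Q := by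
  have h1 : c t j P ∈ (basicOpen (t j) : Set (PrimeSpectrum R)) := by
    rw [← range_c]; exact ⟨P, rfl⟩
  have h2 : c t j P ∈ (basicOpen (t k) : Set (PrimeSpectrum R)) := by
    rw [h, ← range_c]; exact ⟨Q, rfl⟩
  have h3 : c t j P ∈ (basicOpen (t j * t k) : Set (PrimeSpectrum R)) := by
    rw [basicOpen_mul]; exact ⟨h1, h2⟩
  rw [← range_c2] at h3
  obtain ⟨P', hP'⟩ := h3
  refine ⟨P', ?_, ?_⟩
  · apply (c_isOpenEmbedding t j).injective
    rw [c_comap_ρ, hP']
  · apply (c_isOpenEmbedding t k).injective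
    rw [c_comap_lam, hP', h]

theorem eq_zero_of_basicOpen_eq_empty {A : Type*} [CommRing A] {e : A} (he : IsIdempotentElem e)
    (h : (basicOpen e : Set (PrimeSpectrum A)) = ∅) : e = 0 := by
  have h1 : basicOpen e = ⊥ := by
    apply TopologicalSpace.Opens.ext; simpa using h
  obtain ⟨n, hn⟩ := (basicOpen_eq_bot_iff e).mp h1
  cases n with
  | zero =>
    have h10 : (1 : A) = 0 := by simpa using hn
    calc e = e * 1 := (mul_one e).symm
      _ = 0 := by rw [h10, mul_zero]
  | succ n => rw [← he.pow_succ_eq n, hn]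

theorem eq_zero_or_eq_one_of_isPreconnected (hU : IsPreconnected (punct t)) (e : cech t)
    (he : IsIdempotentElem e) : e = 0 ∨ e = 1 := by
  have hej : ∀ j, IsIdempotentElem ((e : ∀ j, L t j) j) := fun j => by
    have := congrArg (fun x : cech t => (x : ∀ j, L t j) j) he.eq
    exact this
  have hej' : ∀ j, IsIdempotentElem (1 - (e : ∀ j, L t j) j) := fun j => (hej j).one_sub
  set u : Set (PrimeSpectrum R) := ⋃ j, c t j '' (basicOpen ((e : ∀ j, L t j) j) : Set _) with hu
  set v : Set (PrimeSpectrum R) := ⋃ j, c t j '' (basicOpen (1 - (e : ∀ j, L t j) j) : Set _)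
    with hv
  have huo : IsOpen u := isOpen_iUnion fun j =>
    (c_isOpenEmbedding t j).isOpenMap _ (basicOpen _).2
  have hvo : IsOpen v := isOpen_iUnion fun j =>
    (c_isOpenEmbedding t j).isOpenMap _ (basicOpen _).2
  have hcov : punct t ⊆ u ∪ v := by
    intro p hp
    obtain ⟨j, P, rfl⟩ := exists_of_mem_punct t hp
    by_cases h : (e : ∀ j, L t j) j ∈ P.asIdeal
    · right
      refine Set.mem_iUnion.mpr ⟨j, P, ?_, rfl⟩
      show P ∈ basicOpen _
      rw [mem_basicOpen]
      intro h'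
      exact P.2.ne_top ((Ideal.eq_top_iff_one _).mpr (by
        have := P.asIdeal.add_mem h h'
        simpa using this))
    · left
      exact Set.mem_iUnion.mpr ⟨j, P, h, rfl⟩
  have hdisj : ¬ (punct t ∩ (u ∩ v)).Nonempty := by
    rintro ⟨p, -, hpu, hpv⟩
    obtain ⟨j, P, hP, rfl⟩ := Set.mem_iUnion.mp hpu
    obtain ⟨k, Q, hQ, hQP⟩ := Set.mem_iUnion.mp hpv
    obtain ⟨P', rfl, rfl⟩ := exists_common t P Q hQP.symm
    have h1 : ρ t j k ((e : ∀ j, L t j) j) ∉ P'.asIdeal := hP
    have h2 : lam t j k (1 - (e : ∀ j, L t j) k) ∉ P'.asIdeal := hQ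
    rw [map_sub, map_one, ← e.2 j k] at h2
    have h3 : ρ t j k ((e : ∀ j, L t j) j) * (1 - ρ t j k ((e : ∀ j, L t j) j)) = 0 := by
      rw [mul_sub, mul_one, ← map_mul, (hej j).eq, sub_self]
    have h4 := P'.2.mem_or_mem (h3 ▸ P'.asIdeal.zero_mem)
    exact h4.elim h1 h2
  have key : ¬ (punct t ∩ u).Nonempty ∨ ¬ (punct t ∩ v).Nonempty := by
    by_contra hcon
    rw [not_or, not_not, not_not] at hcon
    exact hdisj (hU u v huo hvo hcov hcon.1 hcon.2)
  rcases key with h | h
  · left
    apply Subtype.ext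
    funext j
    apply eq_zero_of_basicOpen_eq_empty (hej j)
    by_contra hne
    obtain ⟨P, hP⟩ := Set.nonempty_iff_ne_empty.mpr hne
    exact h ⟨c t j P, range_c_subset t j ⟨P, rfl⟩, Set.mem_iUnion.mpr ⟨j, P, hP, rfl⟩⟩
  · right
    apply Subtype.ext
    funext j
    have : 1 - (e : ∀ j, L t j) j = 0 := by
      apply eq_zero_of_basicOpen_eq_empty (hej' j)
      by_contra hne
      obtain ⟨P, hP⟩ := Set.nonempty_iff_ne_empty.mpr hne
      exact h ⟨c t j P, range_c_subset t j ⟨P, rfl⟩, Set.mem_iUnion.mpr ⟨j, P, hP, rfl⟩⟩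
    show (e : ∀ j, L t j) j = 1
    exact (sub_eq_zero.mp this).symm

theorem isPreconnected_of_forall
    (h : ∀ e : cech t, IsIdempotentElem e → e = 0 ∨ e = 1) : IsPreconnected (punct t) := by
  intro u v hu hv hcov hpu hqv
  by_contra hne
  have hne' : ∀ x, x ∈ punct t → x ∈ u → x ∈ v → False := fun x h1 h2 h3 => hne ⟨x, h1, h2, h3⟩
  have hclopen : ∀ j, IsClopen (c t j ⁻¹' u) := by
    intro j
    refine ⟨?_, hu.preimage (c_isOpenEmbedding t j).continuous⟩
    have : (c t j ⁻¹' u)ᶜ = c t j ⁻¹' v := by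
      ext P
      simp only [Set.mem_compl_iff, Set.mem_preimage]
      constructor
      · intro hP
        rcases hcov (range_c_subset t j ⟨P, rfl⟩) with h1 | h1
        · exact absurd h1 hP
        · exact h1
      · intro hP hP'
        exact hne' _ (range_c_subset t j ⟨P, rfl⟩) hP' hP
    rw [← isOpen_compl_iff, this]
    exact hv.preimage (c_isOpenEmbedding t j).continuous
  choose e he hW using fun j => PrimeSpectrum.isClopen_iff.mp (hclopen j)
  have hcompat : ∀ j k, ρ t j k (e j) = lam t j k (e k) := by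
    intro j k
    apply basicOpen_injOn_isIdempotentElem ((he j).map (ρ t j k)) ((he k).map (lam t j k))
    apply TopologicalSpace.Opens.ext
    ext P'
    have h1 : P' ∈ (basicOpen (ρ t j k (e j)) : Set _) ↔ comap (ρ t j k) P' ∈
        (basicOpen (e j) : Set _) := Iff.rfl
    have h2 : P' ∈ (basicOpen (lam t j k (e k)) : Set _) ↔ comap (lam t j k) P' ∈
        (basicOpen (e k) : Set _) := Iff.rfl
    rw [h1, h2, ← hW j, ← hW k, Set.mem_preimage, Set.mem_preimage, c_comap_ρ, c_comap_lam]
  let E : cech t := ⟨e, hcompat⟩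
  have hE : IsIdempotentElem E := by
    apply Subtype.ext
    funext j
    exact (he j).eq
  rcases h E hE with h0 | h1
  · obtain ⟨p, hp, hpu'⟩ := hpu
    obtain ⟨j, P, rfl⟩ := exists_of_mem_punct t hp
    have hP : P ∈ c t j ⁻¹' u := hpu'
    rw [hW j] at hP
    have : e j = 0 := congrArg (fun x : cech t => (x : ∀ j, L t j) j) h0
    rw [this] at hP
    simp at hP
  · obtain ⟨q, hq, hqv'⟩ := hqv
    obtain ⟨k, Q, rfl⟩ := exists_of_mem_punct t hq
    have : e k = 1 := congrArg (fun x : cech t => (x : ∀ j, L t j) k) h1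
    have hQ : Q ∈ c t k ⁻¹' u := by
      rw [hW k, this]; simp
    exact hne' _ hq hQ hqv'

end Groth.Agent.Lib.Helper14.Punct
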