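import Mathlib
import Groth.Agent.Lib.Helper14.Punct.CechA

/-!
# Functoriality of the Čech `H⁰` (helper14)
-/

set_option autoImplicit false
universe u

namespace Groth.Agent.Lib.Helper14.Punct

open IsLocalization

variable {S T : Type u} [CommRing S] [CommRing T] [Algebra S T] {ι : Type} (t : ι → S)
  (t' : ι → T) (ht : ∀ j, t' j = algebraMap S T (t j))

include ht in
theorem isUnit_aux (j : ι) :
    IsUnit (((algebraMap T (L t' j)).comp (algebraMap S T)) (t j)) := by
  rw [RingHom.comp_apply, ← ht j]
  exact Away.algebraMap_isUnit (t' j)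

include ht in
theorem isUnit_aux2 (j k : ι) :
    IsUnit (((algebraMap T (L2 t' j k)).comp (algebraMap S T)) (t j * t k)) := by
  rw [RingHom.comp_apply, map_mul, ← ht j, ← ht k]
  exact Away.algebraMap_isUnit (t' j * t' k)

/-- componentwise map -/
noncomputable def mapj (j : ι) : L t j →+* L t' j :=
  Away.lift (t j) (isUnit_aux t t' ht j)

/-- map on double overlaps -/
noncomputable def mapjk (j k : ι) : L2 t j k →+* L2 t' j k :=
  Away.lift (t j * t k) (isUnit_aux2 t t' ht j k)

@[simp] theorem mapj_algebraMap (j : ι) (a : S) :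
    mapj t t' ht j (algebraMap S (L t j) a) = algebraMap T (L t' j) (algebraMap S T a) :=
  Away.lift_eq _ _ _

@[simp] theorem mapjk_algebraMap (j k : ι) (a : S) :
    mapjk t t' ht j k (algebraMap S (L2 t j k) a) =
      algebraMap T (L2 t' j k) (algebraMap S T a) :=
  Away.lift_eq _ _ _

theorem ρ_mapj (j k : ι) (z : L t j) :
    ρ t' j k (mapj t t' ht j z) = mapjk t t' ht j k (ρ t j k z) := by
  have : (ρ t' j k).comp (mapj t t' ht j) = (mapjk t t' ht j k).comp (ρ t j k) := by
    apply IsLocalization.ringHom_ext (Submonoid.powers (t j))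
    ext a
    simp
  exact RingHom.congr_fun this z

theorem lam_mapj (j k : ι) (z : L t k) :
    lam t' j k (mapj t t' ht k z) = mapjk t t' ht j k (lam t j k z) := by
  have : (lam t' j k).comp (mapj t t' ht k) = (mapjk t t' ht j k).comp (lam t j k) := by
    apply IsLocalization.ringHom_ext (Submonoid.powers (t k))
    ext a
    simp
  exact RingHom.congr_fun this z

/-- The induced map on Čech `H⁰`. -/
noncomputable def cechMap : cech t →+* cech t' where
  toFun d := ⟨fun j => mapj t t' ht j ((d : ∀ j, L t j) j), fun j k => by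
    rw [ρ_mapj, lam_mapj, d.2 j k]⟩
  map_one' := by ext j; simp
  map_mul' a b := by ext j; simp
  map_zero' := by ext j; simp
  map_add' a b := by ext j; simp

@[simp] theorem cechMap_apply (d : cech t) (j : ι) :
    (cechMap t t' ht d : ∀ j, L t' j) j = mapj t t' ht j ((d : ∀ j, L t j) j) := rfl

theorem cechMap_algebraMap (s : S) :
    cechMap t t' ht (algebraMap S (cech t) s) = algebraMap T (cech t') (algebraMap S T s) := by
  ext j
  simp [algebraMap_cech_apply]

theorem cechMap_smul (s : S) (d : cech t) :
    cechMap t t' ht (s • d) = algebraMap S T s • cechMap t t' ht d := by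
  rw [Algebra.smul_def, map_mul, cechMap_algebraMap, Algebra.smul_def]

theorem IsRep.cechMap {d : cech t} {n : ℕ} {α : ι → S} (h : IsRep t (d : ∀ j, L t j) n α) :
    IsRep t' (cechMap t t' ht d : ∀ j, L t' j) n (fun j => algebraMap S T (α j)) := by
  intro j
  have h1 : t' j ^ n = algebraMap S T (t j ^ n) := by rw [map_pow, ht j]
  rw [cechMap_apply, h1, ← mapj_algebraMap t t' ht j, ← map_mul, h j, mapj_algebraMap]

end Groth.Agent.Lib.Helper14.Punct
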