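import Mathlib
import Groth.Agent.Lib.Helper14.Punct.CechC1

/-!
# Flat base change of the Čech `H⁰`, elementwise (helper14)
-/

set_option autoImplicit false
universe u

namespace Groth.Agent.Lib.Helper14.Punct

open IsLocalization

section rep

variable {R : Type u} [CommRing R] {ι : Type} (t : ι → R)

theorem IsRep.zero (n : ℕ) : IsRep t (0 : ∀ j, L t j) n 0 := fun j => by simp

theorem IsRep.add {e e' : ∀ j, L t j} {n : ℕ} {α α' : ι → R} (h : IsRep t e n α)
    (h' : IsRep t e' n α') : IsRep t (e + e') n (α + α') := fun j => by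
  simp only [Pi.add_apply, add_mul, map_add, h j, h' j]

theorem IsRep.smul {e : cech t} {n : ℕ} {α : ι → R} (h : IsRep t (e : ∀ j, L t j) n α) (r : R) :
    IsRep t ((r • e : cech t) : ∀ j, L t j) n (fun j => r * α j) := fun j => by
  rw [smul_cech_apply, mul_assoc, h j, map_mul]

theorem IsRep.sum {κ : Type*} (s : Finset κ) {e : κ → cech t} {n : ℕ} {α : κ → ι → R}
    (h : ∀ i, IsRep t (e i : ∀ j, L t j) n (α i)) :
    IsRep t ((∑ i ∈ s, e i : cech t) : ∀ j, L t j) n (fun j => ∑ i ∈ s, α i j) := by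
  classical
  induction s using Finset.induction_on with
  | empty =>
    intro j
    simp
  | insert a s ha ih =>
    intro j
    have := (h a).add t ih j
    simp only [Finset.sum_insert ha]
    simpa using this

theorem exists_common_M [Finite ι] {e : cech t} {n : ℕ} {α : ι → R}
    (h : IsRep t (e : ∀ j, L t j) n α) :
    ∃ M : ℕ, ∀ j k, (t j * t k) ^ M * (t k ^ n * α j) = (t j * t k) ^ M * (t j ^ n * α k) := by
  classical
  haveI := Fintype.ofFinite ι
  have h1 := (mem_cech_iff_of_rep t h).mp e.2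
  choose M hM using h1
  refine ⟨Finset.univ.sup (fun jk : ι × ι => M jk.1 jk.2), fun j k => ?_⟩
  have hle : M j k ≤ Finset.univ.sup (fun jk : ι × ι => M jk.1 jk.2) :=
    Finset.le_sup (f := fun jk : ι × ι => M jk.1 jk.2) (Finset.mem_univ (j, k))
  obtain ⟨c, hc⟩ := Nat.exists_eq_add_of_le hle
  rw [hc, pow_add, mul_comm ((t j * t k) ^ M j k), mul_assoc, mul_assoc, hM j k]

/-- the conductor computation -/
theorem pow_smul_eq_algebraMap {d : cech t} {n M : ℕ} {α : ι → R}
    (h : IsRep t (d : ∀ j, L t j) n α)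
    (hM : ∀ j k, (t j * t k) ^ M * (t k ^ n * α j) = (t j * t k) ^ M * (t j ^ n * α k)) (k : ι) :
    t k ^ (n + M) • d = algebraMap R (cech t) (t k ^ M * α k) := by
  ext j
  rw [smul_cech_apply, algebraMap_cech_apply]
  apply (isUnit_pow t j n).mul_left_injective
  show algebraMap R (L t j) (t k ^ (n + M)) * (d : ∀ j, L t j) j * algebraMap R (L t j) (t j ^ n) =
    algebraMap R (L t j) (t k ^ M * α k) * algebraMap R (L t j) (t j ^ n)
  rw [mul_assoc, h j, ← map_mul, ← map_mul]
  rw [IsLocalization.eq_iff_exists (Submonoid.powers (t j))]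
  refine ⟨⟨t j ^ M, M, rfl⟩, ?_⟩
  show t j ^ M * (t k ^ (n + M) * α j) = t j ^ M * (t k ^ M * α k * t j ^ n)
  have := hM j k
  calc t j ^ M * (t k ^ (n + M) * α j) = (t j * t k) ^ M * (t k ^ n * α j) := by ring
    _ = (t j * t k) ^ M * (t j ^ n * α k) := this
    _ = t j ^ M * (t k ^ M * α k * t j ^ n) := by ring

end rep

section flat

variable {S T : Type u} [CommRing S] [CommRing T] [Algebra S T] [Module.Flat S T]
  {ι : Type} [Finite ι] (t : ι → S)

/-- equational criterion for the compatibility relations -/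
theorem exists_flat_decomp (n M : ℕ) (a : ι → T)
    (ha : ∀ j k, algebraMap S T ((t j * t k) ^ M) * (algebraMap S T (t k ^ n) * a j) =
      algebraMap S T ((t j * t k) ^ M) * (algebraMap S T (t j ^ n) * a k)) :
    ∃ (κ : ℕ) (cc : Fin κ → T) (α : Fin κ → ι → S),
      (∀ i j k, (t j * t k) ^ M * (t k ^ n * α i j) = (t j * t k) ^ M * (t j ^ n * α i k)) ∧
      ∀ j, a j = ∑ i, algebraMap S T (α i j) * cc i := by
  classical
  haveI := Fintype.ofFinite ι
  let f : (ι × ι → S) →ₗ[S] (ι → S) := Fintype.linearCombination S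
    (fun jk : ι × ι => (t jk.1 * t jk.2) ^ M •
      (t jk.2 ^ n • (Pi.single jk.1 (1 : S) : ι → S) - t jk.1 ^ n • (Pi.single jk.2 (1 : S) : ι → S)))
  let x : (ι → S) →ₗ[S] T := Fintype.linearCombination S a
  have hx : ∀ j, x (Pi.single j 1) = a j := fun j => by
    simp [x, Fintype.linearCombination_apply_single]
  have hxf : x ∘ₗ f = 0 := by
    apply LinearMap.pi_ext
    intro jk r
    rcases jk with ⟨j, k⟩
    simp only [LinearMap.comp_apply, LinearMap.zero_apply, f,
      Fintype.linearCombination_apply_single, map_smul, map_sub, hx]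
    rw [Algebra.smul_def, Algebra.smul_def, Algebra.smul_def, Algebra.smul_def, mul_sub,
      sub_eq_zero.mpr (ha j k), mul_zero]
  obtain ⟨κ, A, y, hy, hAf⟩ := Module.Flat.exists_factorization_of_comp_eq_zero_of_free hxf
  refine ⟨κ, fun i => y (Finsupp.single i 1), fun i j => A (Pi.single j 1) i, ?_, ?_⟩
  · intro i j k
    have h1 : A (f (Pi.single (j, k) 1)) = 0 := LinearMap.congr_fun hAf _
    have h2 := DFunLike.congr_fun h1 i
    simp only [f, Fintype.linearCombination_apply_single, one_smul, map_smul, map_sub,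
      Finsupp.coe_smul, Finsupp.coe_sub, Pi.smul_apply, Pi.sub_apply, smul_eq_mul,
      Finsupp.coe_zero, Pi.zero_apply] at h2
    rw [mul_sub, sub_eq_zero] at h2
    exact h2
  · intro j
    rw [← hx j, hy, LinearMap.comp_apply]
    conv_lhs => rw [← Finsupp.univ_sum_single (A (Pi.single j 1))]
    rw [map_sum]
    refine Finset.sum_congr rfl fun i _ => ?_
    rw [← Finsupp.smul_single_one, map_smul, Algebra.smul_def]

variable (t' : ι → T) (ht : ∀ j, t' j = algebraMap S T (t j))

include ht in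
/-- Every element of the Čech `H⁰` upstairs is a combination of elements from downstairs. -/
theorem exists_decomp (e : cech t') :
    ∃ (κ : ℕ) (cc : Fin κ → T) (d : Fin κ → cech t) (n M : ℕ) (α : Fin κ → ι → S),
      (∀ i, IsRep t (d i : ∀ j, L t j) n (α i)) ∧
      (∀ i j k, (t j * t k) ^ M * (t k ^ n * α i j) = (t j * t k) ^ M * (t j ^ n * α i k)) ∧
      e = ∑ i, cc i • cechMap t t' ht (d i) := by
  obtain ⟨n, a, ha⟩ := exists_rep t' (e : ∀ j, L t' j)
  obtain ⟨M, hM⟩ := exists_common_M t' ha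
  have ha' : ∀ j k, algebraMap S T ((t j * t k) ^ M) * (algebraMap S T (t k ^ n) * a j) =
      algebraMap S T ((t j * t k) ^ M) * (algebraMap S T (t j ^ n) * a k) := by
    intro j k
    have := hM j k
    simp only [map_pow, map_mul, ← ht]
    exact this
  obtain ⟨κ, cc, α, hα, hsum⟩ := exists_flat_decomp t n M a ha'
  have hmem : ∀ i, frac t n (α i) ∈ cech t := fun i =>
    (mem_cech_iff_of_rep t (isRep_frac t n (α i))).mpr fun j k => ⟨M, hα i j k⟩
  refine ⟨κ, cc, fun i => ⟨frac t n (α i), hmem i⟩, n, M, α, fun i => isRep_frac t n (α i), hα, ?_⟩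
  apply Subtype.ext
  apply ha.ext t'
  have h1 : ∀ i, IsRep t' ((cc i • cechMap t t' ht ⟨frac t n (α i), hmem i⟩ : cech t') :
      ∀ j, L t' j) n (fun j => cc i * algebraMap S T (α i j)) := fun i =>
    (IsRep.cechMap t t' ht (d := ⟨frac t n (α i), hmem i⟩) (isRep_frac t n (α i))).smul t' (cc i)
  have h2 := IsRep.sum t' Finset.univ h1
  intro j
  rw [h2 j, hsum j]
  congr 1
  exact Finset.sum_congr rfl fun i _ => mul_comm _ _

include ht in
/-- Splitting an element upstairs as (element from downstairs) + (constant). -/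
theorem exists_split
    (hdense : ∀ 𝔞 : Ideal S, (∀ j, t j ∈ 𝔞.radical) → ∀ a : T, ∃ s : S,
      a - algebraMap S T s ∈ 𝔞.map (algebraMap S T))
    (e : cech t') :
    ∃ (x : cech t) (b : T), e = cechMap t t' ht x + algebraMap T (cech t') b := by
  classical
  haveI := Fintype.ofFinite ι
  obtain ⟨κ, cc, d, n, M, α, hrep, hrel, he⟩ := exists_decomp t t' ht e
  set 𝔞 : Ideal S := Ideal.span (Set.range fun k => t k ^ (n + M)) with h𝔞
  have hrad : ∀ j, t j ∈ 𝔞.radical := fun j =>
    ⟨n + M, Ideal.subset_span ⟨j, rfl⟩⟩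
  have hmap : 𝔞.map (algebraMap S T) =
      Ideal.span (Set.range fun k => algebraMap S T (t k ^ (n + M))) := by
    rw [h𝔞, Ideal.map_span, ← Set.range_comp]
    rfl
  choose γ hγ using fun i => hdense 𝔞 hrad (cc i)
  have hβ : ∀ i, ∃ β : ι → T, ∑ k, β k * algebraMap S T (t k ^ (n + M)) =
      cc i - algebraMap S T (γ i) := fun i => by
    have := hγ i
    rw [hmap] at this
    exact Ideal.mem_span_range_iff_exists_fun.mp this
  choose β hβ' using hβ
  have hcond : ∀ i k, t k ^ (n + M) • d i = algebraMap S (cech t) (t k ^ M * α i k) := fun i k =>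
    pow_smul_eq_algebraMap t (hrep i) (hrel i) k
  refine ⟨∑ i, γ i • d i, ∑ i, ∑ k, β i k * algebraMap S T (t k ^ M * α i k), ?_⟩
  rw [he, map_sum, map_sum, ← Finset.sum_add_distrib]
  refine Finset.sum_congr rfl fun i _ => ?_
  have h1 : cc i = algebraMap S T (γ i) + ∑ k, β i k * algebraMap S T (t k ^ (n + M)) := by
    rw [hβ' i]; ring
  rw [h1, add_smul, cechMap_smul, Finset.sum_smul, map_sum]
  congr 1
  refine Finset.sum_congr rfl fun k _ => ?_
  rw [mul_smul, ← cechMap_smul, hcond i k, cechMap_algebraMap, map_mul (algebraMap T (cech t')),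
    Algebra.smul_def]

end flat

end Groth.Agent.Lib.Helper14.Punct
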