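import Mathlib
import Groth.Agent.Lib.Helper14.Punct.CechC2

/-!
# Descent of integrality for the Čech `H⁰` along a faithfully flat map (helper14)
-/

set_option autoImplicit false
universe u

namespace Groth.Agent.Lib.Helper14.Punct

open IsLocalization TensorProduct

variable {S T : Type u} [CommRing S] [CommRing T] [Algebra S T] [Module.FaithfullyFlat S T]
  {ι : Type} [Finite ι]

/-- A linear system over `S` in two unknowns which is solvable in a faithfully flat extension is
solvable in `S`. -/
theorem exists_solution_of_faithfullyFlat (u w r : ι → S) (P Q : T)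
    (h : ∀ j, algebraMap S T (u j) * P + algebraMap S T (w j) * Q = algebraMap S T (r j)) :
    ∃ p q : S, ∀ j, u j * p + w j * q = r j := by
  classical
  haveI := Fintype.ofFinite ι
  let N : Submodule S (ι → S) := Submodule.span S {u, w}
  have key : (1 : T) ⊗ₜ[S] r = P ⊗ₜ[S] u + Q ⊗ₜ[S] w := by
    apply (TensorProduct.piScalarRight S T T ι).injective
    rw [map_add, piScalarRight_apply, piScalarRight_apply, piScalarRight_apply,
      piScalarRightHom_tmul, piScalarRightHom_tmul, piScalarRightHom_tmul]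
    funext j
    simp only [Pi.add_apply, Algebra.smul_def, mul_one]
    exact (h j).symm
  have hu : N.mkQ u = 0 := by
    rw [Submodule.mkQ_apply, Submodule.Quotient.mk_eq_zero]
    exact Submodule.subset_span (by simp)
  have hw : N.mkQ w = 0 := by
    rw [Submodule.mkQ_apply, Submodule.Quotient.mk_eq_zero]
    exact Submodule.subset_span (by simp)
  have h0 : N.mkQ r = 0 := by
    apply Module.FaithfullyFlat.tensorProduct_mk_injective (A := S) (B := T) ((ι → S) ⧸ N)
    rw [map_zero]
    show (1 : T) ⊗ₜ[S] N.mkQ r = 0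
    have := congrArg (LinearMap.lTensor T N.mkQ) key
    simp only [LinearMap.lTensor_tmul, map_add] at this
    rw [this, hu, hw, tmul_zero, tmul_zero, add_zero]
  rw [Submodule.mkQ_apply, Submodule.Quotient.mk_eq_zero] at h0
  obtain ⟨p, q, hpq⟩ := Submodule.mem_span_pair.mp h0
  refine ⟨p, q, fun j => ?_⟩
  have := congrFun hpq j
  simp only [Pi.add_apply, Pi.smul_apply, smul_eq_mul] at this
  rw [← this]; ring

variable (t : ι → S) (t' : ι → T) (ht : ∀ j, t' j = algebraMap S T (t j))

include ht in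
/-- If `Ψ x + b` is idempotent then `x` satisfies a monic quadratic over `S`. -/
theorem exists_quadratic (x : cech t) (b : T)
    (hidem : IsIdempotentElem (cechMap t t' ht x + algebraMap T (cech t') b)) :
    ∃ p q : S, x * x + p • x + q • (1 : cech t) = 0 := by
  classical
  haveI := Fintype.ofFinite ι
  obtain ⟨n, ξ, hξ⟩ := exists_rep t (x : ∀ j, L t j)
  have hξ' := IsRep.cechMap t t' ht hξ
  set X' := cechMap t t' ht x with hX'
  -- the quadratic relation upstairs
  have hquad : X' * X' + (2 * b - 1) • X' + (b * b - b) • (1 : cech t') = 0 := by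
    have h1 := hidem.eq
    rw [Algebra.smul_def, Algebra.smul_def, mul_one]
    have h2 : (X' + algebraMap T (cech t') b) * (X' + algebraMap T (cech t') b)
        - (X' + algebraMap T (cech t') b) = 0 := sub_eq_zero.mpr h1
    rw [← h2]
    simp only [map_sub, map_mul, map_one, map_ofNat]
    ring
  -- componentwise
  have hcomp : ∀ j, ∃ M' : ℕ, t' j ^ M' * (algebraMap S T (ξ j) ^ 2 +
      (2 * b - 1) * (algebraMap S T (ξ j) * t' j ^ n) + (b * b - b) * (t' j ^ n) ^ 2) = 0 := by
    intro j
    have h1 := congrArg (fun z : cech t' => (z : ∀ j, L t' j) j) hquad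
    simp only [Subring.coe_add, Subring.coe_mul, Pi.add_apply, Pi.mul_apply, smul_cech_apply,
      Subring.coe_one, Pi.one_apply, mul_one, Subring.coe_zero, Pi.zero_apply] at h1
    have h2 := hξ' j
    have h3 : algebraMap T (L t' j) (algebraMap S T (ξ j) ^ 2 +
      (2 * b - 1) * (algebraMap S T (ξ j) * t' j ^ n) + (b * b - b) * (t' j ^ n) ^ 2) =
        algebraMap T (L t' j) 0 := by
      rw [map_zero, map_add, map_add, map_pow, map_mul, map_mul, map_mul, map_pow _ (t' j ^ n),
        ← h2]
      have : ((X' : ∀ j, L t' j) j * algebraMap T (L t' j) (t' j ^ n)) ^ 2 +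
          algebraMap T (L t' j) (2 * b - 1) *
            ((X' : ∀ j, L t' j) j * algebraMap T (L t' j) (t' j ^ n) *
              algebraMap T (L t' j) (t' j ^ n)) +
          algebraMap T (L t' j) (b * b - b) * algebraMap T (L t' j) (t' j ^ n) ^ 2 =
          ((X' : ∀ j, L t' j) j * (X' : ∀ j, L t' j) j +
            algebraMap T (L t' j) (2 * b - 1) * (X' : ∀ j, L t' j) j +
            algebraMap T (L t' j) (b * b - b)) * algebraMap T (L t' j) (t' j ^ n) ^ 2 := by ring
      rw [this, h1, zero_mul]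
    obtain ⟨M', hM'⟩ := Away.exists_of_eq (t' j) h3
    exact ⟨M', by rw [hM', mul_zero]⟩
  choose M' hM' using hcomp
  set M0 := Finset.univ.sup M' with hM0
  have hM0' : ∀ j, t' j ^ M0 * (algebraMap S T (ξ j) ^ 2 +
      (2 * b - 1) * (algebraMap S T (ξ j) * t' j ^ n) + (b * b - b) * (t' j ^ n) ^ 2) = 0 := by
    intro j
    have hle : M' j ≤ M0 := Finset.le_sup (Finset.mem_univ j)
    obtain ⟨c, hc⟩ := Nat.exists_eq_add_of_le hle
    rw [hc, pow_add, mul_comm (t' j ^ M' j), mul_assoc, hM' j, mul_zero]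
  obtain ⟨p, q, hpq⟩ := exists_solution_of_faithfullyFlat (T := T)
    (fun j => t j ^ M0 * (ξ j * t j ^ n)) (fun j => t j ^ M0 * (t j ^ n) ^ 2)
    (fun j => -(t j ^ M0 * ξ j ^ 2)) (2 * b - 1) (b * b - b) (fun j => by
      have := hM0' j
      simp only [map_mul, map_pow, map_neg, ← ht]
      rw [eq_neg_iff_add_eq_zero, ← this]
      ring)
  refine ⟨p, q, ?_⟩
  ext j
  simp only [Subring.coe_add, Subring.coe_mul, Pi.add_apply, Pi.mul_apply, smul_cech_apply,
    Subring.coe_one, Pi.one_apply, mul_one, Subring.coe_zero, Pi.zero_apply]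
  have hu : IsUnit (algebraMap S (L t j) (t j ^ n) ^ 2) := (isUnit_pow t j n).pow 2
  apply hu.mul_left_injective
  show ((x : ∀ j, L t j) j * (x : ∀ j, L t j) j + algebraMap S (L t j) p * (x : ∀ j, L t j) j +
    algebraMap S (L t j) q) * algebraMap S (L t j) (t j ^ n) ^ 2 =
      0 * algebraMap S (L t j) (t j ^ n) ^ 2
  have h2 := hξ j
  have : ((x : ∀ j, L t j) j * (x : ∀ j, L t j) j + algebraMap S (L t j) p * (x : ∀ j, L t j) j +
    algebraMap S (L t j) q) * algebraMap S (L t j) (t j ^ n) ^ 2 =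
      ((x : ∀ j, L t j) j * algebraMap S (L t j) (t j ^ n)) ^ 2 +
      algebraMap S (L t j) p * ((x : ∀ j, L t j) j * algebraMap S (L t j) (t j ^ n) *
        algebraMap S (L t j) (t j ^ n)) + algebraMap S (L t j) q *
          algebraMap S (L t j) (t j ^ n) ^ 2 := by ring
  rw [this, h2, zero_mul, ← map_pow, ← map_mul, ← map_mul, ← map_pow, ← map_mul, ← map_add,
    ← map_add, ← map_zero (algebraMap S (L t j)),
    IsLocalization.eq_iff_exists (Submonoid.powers (t j))]
  refine ⟨⟨t j ^ M0, M0, rfl⟩, ?_⟩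
  show t j ^ M0 * (ξ j ^ 2 + p * (ξ j * t j ^ n) + q * (t j ^ n) ^ 2) = t j ^ M0 * 0
  have := hpq j
  rw [mul_zero]
  have h5 : t j ^ M0 * (ξ j ^ 2 + p * (ξ j * t j ^ n) + q * (t j ^ n) ^ 2) =
      (t j ^ M0 * (ξ j * t j ^ n) * p + t j ^ M0 * (t j ^ n) ^ 2 * q) + t j ^ M0 * ξ j ^ 2 := by
    ring
  rw [h5, this]; ring

end Groth.Agent.Lib.Helper14.Punct
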