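import Mathlib
import Groth.Agent.Lib.Helper14.Punct.CechC3
import Groth.Agent.Lib.Helper26.HenselIdem

/-!
# Idempotents of the Čech `H⁰` of the completion come from the henselian ring (helper14)
-/

set_option autoImplicit false
universe u

namespace Groth.Agent.Lib.Helper14.Punct

open IsLocalization IsLocalRing

/-- An Artinian ring with only trivial idempotents is local. -/
theorem isLocalRing_of_artinian_of_idem (F : Type*) [CommRing F] [IsArtinianRing F] [Nontrivial F]
    (H : ∀ e : F, IsIdempotentElem e → e = 0 ∨ e = 1) : IsLocalRing F := by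
  obtain ⟨p, hp⟩ := Ideal.exists_maximal F
  refine IsLocalRing.of_unique_max_ideal ⟨p, hp, fun q hq => ?_⟩
  by_contra hne
  haveI := hp.isPrime
  obtain ⟨r, hrp, hr, hrq⟩ := IsArtinianRing.exists_not_mem_forall_mem_of_ne p
  rcases H r hr with h0 | h1
  · exact hrp (h0 ▸ p.zero_mem)
  · exact hq.ne_top ((Ideal.eq_top_iff_one q).mpr (h1 ▸ hrq q hq.isPrime hne))

/-- An idempotent in `𝔪B`, `B` integral over the local ring `T`, is zero. -/
theorem idem_eq_zero_of_mem_map {T B : Type*} [CommRing T] [IsLocalRing T] [CommRing B]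
    [Algebra T B] [Algebra.IsIntegral T B] {e : B} (he : IsIdempotentElem e)
    (hmem : e ∈ (maximalIdeal T).map (algebraMap T B)) : e = 0 := by
  have hu : IsUnit (1 - e) := by
    by_contra hnu
    obtain ⟨n, hn, hen⟩ := exists_max_ideal_of_mem_nonunits hnu
    haveI := hn
    have h1 : (n.comap (algebraMap T B)).IsMaximal :=
      Ideal.isMaximal_comap_of_isIntegral_of_isMaximal n
    have h2 : n.comap (algebraMap T B) = maximalIdeal T := IsLocalRing.eq_maximalIdeal h1
    have h3 : (maximalIdeal T).map (algebraMap T B) ≤ n := by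
      rw [Ideal.map_le_iff_le_comap, h2]
    have h4 : (1 : B) ∈ n := by
      have := n.add_mem hen (h3 hmem)
      simpa using this
    exact hn.ne_top ((Ideal.eq_top_iff_one n).mpr h4)
  have h0 : e * (1 - e) = 0 := by rw [mul_sub, mul_one, he.eq, sub_self]
  exact (hu.mul_left_eq_zero).mp h0

theorem idem_local {F : Type*} [CommRing F] [IsLocalRing F] {e : F} (he : IsIdempotentElem e) :
    e = 0 ∨ e = 1 := by
  have h0 : e * (1 - e) = 0 := by rw [mul_sub, mul_one, he.eq, sub_self]
  rcases IsLocalRing.isUnit_or_isUnit_one_sub_self e with h | h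
  · right
    have := (h.mul_right_eq_zero).mp h0
    exact (sub_eq_zero.mp this).symm
  · left
    exact (h.mul_left_eq_zero).mp h0

variable {S T : Type u} [CommRing S] [HenselianLocalRing S] [CommRing T] [IsLocalRing T]
  [Algebra S T] [Module.FaithfullyFlat S T] {ι : Type} [Finite ι]
  (t : ι → S) (t' : ι → T) (ht : ∀ j, t' j = algebraMap S T (t j))

/-- Idempotents of finite subalgebras of a ring with trivial idempotents, modulo `𝔪`. -/
theorem quotient_idem_trivial {D : Type u} [CommRing D] [Algebra S D]
    (H : ∀ e₀ : D, IsIdempotentElem e₀ → e₀ = 0 ∨ e₀ = 1) (C : Subalgebra S D)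
    [Algebra.IsIntegral S C]
    (ē : C ⧸ (maximalIdeal S).map (algebraMap S C)) (hē : IsIdempotentElem ē) :
    ē = 0 ∨ ē = 1 := by
  obtain ⟨b, rfl⟩ := Ideal.Quotient.mk_surjective ē
  have hb : b * b - b ∈ (maximalIdeal S).map (algebraMap S C) := by
    rw [← Ideal.Quotient.eq, map_mul]; exact hē.eq
  have hF := Groth.Agent.Lib.Helper26.HenselTFAE.liftsFactorizations_of_liftsEtale
    (maximalIdeal S)
    (Groth.Agent.Lib.Helper26.HenselTFAE.liftsEtale_of_henselianRing (maximalIdeal S))
  obtain ⟨e₁, he₁, hsub⟩ := Groth.Agent.Lib.Helper26.HenselIdem.exists_idempotent_integral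
    (maximalIdeal S) HenselianRing.jac hF b hb
  have h1 : IsIdempotentElem (e₁ : D) := by
    have := congrArg (fun z : C => (z : D)) he₁.eq
    exact this
  have h2 : Ideal.Quotient.mk ((maximalIdeal S).map (algebraMap S C)) b =
      Ideal.Quotient.mk _ e₁ := by
    rw [eq_comm, Ideal.Quotient.eq]; exact hsub
  rw [h2]
  rcases H _ h1 with h | h
  · left
    have : e₁ = 0 := Subtype.ext h
    rw [this, map_zero]
  · right
    have : e₁ = 1 := Subtype.ext h
    rw [this, map_one]

end Groth.Agent.Lib.Helper14.Punct
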