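import Mathlib
import Groth.Agent.Lib.Helper14.Punct.CechC4

/-!
# Main algebraic theorem: trivial idempotents go up (helper14)
-/

set_option autoImplicit false
universe u

namespace Groth.Agent.Lib.Helper14.Punct

open IsLocalization IsLocalRing Polynomial

theorem isIntegral_of_quadratic {R A : Type*} [CommRing R] [CommRing A] [Algebra R A] (x : A)
    (p q : R) (h : x * x + p • x + q • (1 : A) = 0) : IsIntegral R x := by
  refine ⟨X ^ 2 + C p * X + C q, ?_, ?_⟩
  · have h1 : (X ^ 2 + C p * X + C q : R[X]) = X ^ 2 + (C p * X + C q) := add_assoc _ _ _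
    rw [h1]
    apply Polynomial.monic_X_pow_add
    refine lt_of_le_of_lt (Polynomial.degree_add_le _ _) ?_
    refine max_lt ?_ ?_
    · refine lt_of_le_of_lt (Polynomial.degree_C_mul_X_le p) (by norm_num)
    · refine lt_of_le_of_lt Polynomial.degree_C_le (by norm_num)
  · simp only [eval₂_add, eval₂_mul, eval₂_pow, eval₂_X, eval₂_C]
    rw [← h, Algebra.smul_def, Algebra.smul_def, mul_one, pow_two]

theorem isArtinianRing_quotient_map {S C : Type*} [CommRing S] [IsLocalRing S] [CommRing C]
    [Algebra S C] [Module.Finite S C] :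
    IsArtinianRing (C ⧸ (maximalIdeal S).map (algebraMap S C)) := by
  letI : Field (S ⧸ maximalIdeal S) := Ideal.Quotient.field _
  haveI : Module.Finite S (C ⧸ (maximalIdeal S).map (algebraMap S C)) :=
    Module.Finite.of_surjective (Ideal.Quotient.mkₐ S _).toLinearMap
      (Ideal.Quotient.mkₐ_surjective S _)
  haveI : Module.Finite (S ⧸ maximalIdeal S) (C ⧸ (maximalIdeal S).map (algebraMap S C)) :=
    Module.Finite.of_restrictScalars_finite S _ _
  exact IsArtinianRing.of_finite (S ⧸ maximalIdeal S) _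

variable {S T : Type u} [CommRing S] [HenselianLocalRing S] [CommRing T] [IsLocalRing T]
  [Algebra S T] [Module.FaithfullyFlat S T] {ι : Type} [Finite ι]
  (t : ι → S) (t' : ι → T) (ht : ∀ j, t' j = algebraMap S T (t j))

include ht in
theorem trivial_idem_up
    (hm : (maximalIdeal S).map (algebraMap S T) = maximalIdeal T)
    (htm : ∀ j, t j ∈ maximalIdeal S)
    (hdense : ∀ 𝔞 : Ideal S, (∀ j, t j ∈ 𝔞.radical) → ∀ a : T, ∃ s : S,
      a - algebraMap S T s ∈ 𝔞.map (algebraMap S T))
    (H : ∀ e₀ : cech t, IsIdempotentElem e₀ → e₀ = 0 ∨ e₀ = 1)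
    (e : cech t') (he : IsIdempotentElem e) : e = 0 ∨ e = 1 := by
  classical
  obtain ⟨x, b, hxb⟩ := exists_split t t' ht hdense e
  obtain ⟨p, q, hpq⟩ := exists_quadratic t t' ht x b (hxb ▸ he)
  have hxint : IsIntegral S x := isIntegral_of_quadratic x p q hpq
  let C : Subalgebra S (cech t) := Algebra.adjoin S {x}
  haveI hCint : Algebra.IsIntegral S C := Algebra.IsIntegral.adjoin (fun y hy => by
    rw [Set.mem_singleton_iff.mp hy]; exact hxint)
  haveI hCfin : Module.Finite S C := .of_fg hxint.fg_adjoin_singleton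
  obtain ⟨X', hX'⟩ : ∃ X', X' = cechMap t t' ht x := ⟨_, rfl⟩
  rw [← hX'] at hxb
  have hquad' : X' * X' + algebraMap S T p • X' + algebraMap S T q • (1 : cech t') = 0 := by
    have := congrArg (cechMap t t' ht) hpq
    rw [map_add, map_add, map_mul, cechMap_smul, cechMap_smul, map_one, map_zero, ← hX'] at this
    exact this
  have hX'int : IsIntegral T X' := isIntegral_of_quadratic X' _ _ hquad'
  let Ĉ : Subalgebra T (cech t') := Algebra.adjoin T {X'}
  haveI hĈint : Algebra.IsIntegral T Ĉ := Algebra.IsIntegral.adjoin (fun y hy => by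
    rw [Set.mem_singleton_iff.mp hy]; exact hX'int)
  have hX'mem : X' ∈ Ĉ := Algebra.subset_adjoin rfl
  have heĈ : e ∈ Ĉ := by
    rw [hxb]; exact Ĉ.add_mem hX'mem (Ĉ.algebraMap_mem b)
  have hφmem : ∀ c : C, ((cechMap t t' ht).comp C.val.toRingHom) c ∈ Ĉ := by
    rintro ⟨c, hc⟩
    show cechMap t t' ht c ∈ Ĉ
    induction hc using Algebra.adjoin_induction with
    | mem y hy => rw [Set.mem_singleton_iff.mp hy, ← hX']; exact hX'mem
    | algebraMap s => rw [cechMap_algebraMap]; exact Ĉ.algebraMap_mem _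
    | add y z _ _ hy hz => rw [map_add]; exact Ĉ.add_mem hy hz
    | mul y z _ _ hy hz => rw [map_mul]; exact Ĉ.mul_mem hy hz
  let φ : C →+* Ĉ := ((cechMap t t' ht).comp C.val.toRingHom).codRestrict Ĉ hφmem
  have hφval : ∀ c : C, ((φ c : Ĉ) : cech t') = cechMap t t' ht (c : cech t) := fun c => rfl
  have hφalg : ∀ s : S, φ (algebraMap S C s) = algebraMap T Ĉ (algebraMap S T s) := fun s => by
    apply Subtype.ext
    rw [hφval]
    exact cechMap_algebraMap t t' ht s
  let g : C →+* Ĉ ⧸ (maximalIdeal T).map (algebraMap T Ĉ) := (Ideal.Quotient.mk _).comp φ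
  have hgJ : ∀ a ∈ (maximalIdeal S).map (algebraMap S C), g a = 0 := by
    have : (maximalIdeal S).map (algebraMap S C) ≤ RingHom.ker g := by
      rw [Ideal.map_le_iff_le_comap]
      intro s hs
      rw [Ideal.mem_comap, RingHom.mem_ker]
      show Ideal.Quotient.mk _ (φ (algebraMap S C s)) = 0
      rw [Ideal.Quotient.eq_zero_iff_mem, hφalg]
      apply Ideal.mem_map_of_mem
      rw [← hm]; exact Ideal.mem_map_of_mem _ hs
    exact fun a ha => this ha
  let gbar : C ⧸ (maximalIdeal S).map (algebraMap S C) →+*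
      Ĉ ⧸ (maximalIdeal T).map (algebraMap T Ĉ) := Ideal.Quotient.lift _ g hgJ
  -- approximation of elements of `Ĉ`
  have happrox : ∀ y ∈ Ĉ, ∃ (c : C) (z : Ĉ), z ∈ (maximalIdeal T).map (algebraMap T Ĉ) ∧
      y = ((φ c : Ĉ) : cech t') + (z : cech t') := by
    intro y hy
    induction hy using Algebra.adjoin_induction with
    | mem y hy =>
      refine ⟨⟨x, Algebra.subset_adjoin rfl⟩, 0, Ideal.zero_mem _, ?_⟩
      rw [Set.mem_singleton_iff.mp hy, hφval, hX']
      simp
    | algebraMap a =>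
      obtain ⟨s, hs⟩ := hdense (maximalIdeal S) (fun j => Ideal.le_radical (htm j)) a
      refine ⟨algebraMap S C s, algebraMap T Ĉ (a - algebraMap S T s), ?_, ?_⟩
      · apply Ideal.mem_map_of_mem
        rw [← hm]; exact hs
      · rw [hφalg]
        show algebraMap T (cech t') a = algebraMap T (cech t') (algebraMap S T s) +
          algebraMap T (cech t') (a - algebraMap S T s)
        rw [← map_add]; congr 1; ring
    | add y z _ _ hy hz =>
      obtain ⟨c₁, z₁, hz₁, h₁⟩ := hy
      obtain ⟨c₂, z₂, hz₂, h₂⟩ := hz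
      refine ⟨c₁ + c₂, z₁ + z₂, Ideal.add_mem _ hz₁ hz₂, ?_⟩
      rw [h₁, h₂, map_add]
      push_cast
      ring
    | mul y z _ _ hy hz =>
      obtain ⟨c₁, z₁, hz₁, h₁⟩ := hy
      obtain ⟨c₂, z₂, hz₂, h₂⟩ := hz
      refine ⟨c₁ * c₂, φ c₁ * z₂ + z₁ * φ c₂ + z₁ * z₂,
        Ideal.add_mem _ (Ideal.add_mem _ (Ideal.mul_mem_left _ _ hz₂)
          (Ideal.mul_mem_right _ _ hz₁)) (Ideal.mul_mem_left _ _ hz₂), ?_⟩
      rw [h₁, h₂, map_mul]
      push_cast
      ring
  have hsurj : Function.Surjective gbar := by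
    intro ybar
    obtain ⟨y, rfl⟩ := Ideal.Quotient.mk_surjective ybar
    obtain ⟨c, z, hz, hyz⟩ := happrox y y.2
    refine ⟨Ideal.Quotient.mk _ c, ?_⟩
    show Ideal.Quotient.mk _ (φ c) = Ideal.Quotient.mk _ y
    rw [Ideal.Quotient.eq]
    have : φ c - y = -z := by
      apply Subtype.ext
      push_cast
      rw [hyz]; ring
    rw [this]
    exact neg_mem hz
  have HF : ∀ ē : C ⧸ (maximalIdeal S).map (algebraMap S C), IsIdempotentElem ē → ē = 0 ∨ ē = 1 :=
    quotient_idem_trivial H C
  let eC : Ĉ := ⟨e, heĈ⟩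
  have heC : IsIdempotentElem eC := Subtype.ext he.eq
  have key : eC ∈ (maximalIdeal T).map (algebraMap T Ĉ) ∨
      1 - eC ∈ (maximalIdeal T).map (algebraMap T Ĉ) := by
    by_cases hnt : Nontrivial (Ĉ ⧸ (maximalIdeal T).map (algebraMap T Ĉ))
    · haveI := hnt
      haveI : Nontrivial (C ⧸ (maximalIdeal S).map (algebraMap S C)) := gbar.domain_nontrivial
      haveI : IsArtinianRing (C ⧸ (maximalIdeal S).map (algebraMap S C)) :=
        isArtinianRing_quotient_map
      haveI : IsLocalRing (C ⧸ (maximalIdeal S).map (algebraMap S C)) :=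
        isLocalRing_of_artinian_of_idem (C ⧸ (maximalIdeal S).map (algebraMap S C)) HF
      haveI : IsLocalRing (Ĉ ⧸ (maximalIdeal T).map (algebraMap T Ĉ)) :=
        IsLocalRing.of_surjective' (R := C ⧸ (maximalIdeal S).map (algebraMap S C))
          (S := Ĉ ⧸ (maximalIdeal T).map (algebraMap T Ĉ)) gbar hsurj
      have h1 : IsIdempotentElem (Ideal.Quotient.mk ((maximalIdeal T).map (algebraMap T Ĉ)) eC) :=
        heC.map _
      rcases idem_local (F := Ĉ ⧸ (maximalIdeal T).map (algebraMap T Ĉ)) h1 with h | h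
      · left; exact Ideal.Quotient.eq_zero_iff_mem.mp h
      · right
        rw [← Ideal.Quotient.eq_zero_iff_mem, map_sub, map_one, h, sub_self]
    · left
      rw [not_nontrivial_iff_subsingleton] at hnt
      rw [← Ideal.Quotient.eq_zero_iff_mem]
      exact Subsingleton.elim _ _
  rcases key with h | h
  · left
    have := idem_eq_zero_of_mem_map heC h
    exact congrArg Subtype.val this
  · right
    have := idem_eq_zero_of_mem_map heC.one_sub h
    have h2 : eC = 1 := (sub_eq_zero.mp this).symm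
    exact congrArg Subtype.val h2

end Groth.Agent.Lib.Helper14.Punct
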