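import Mathlib
import Groth.Agent.Lib.Helper14.Punct.CechB
import Groth.Agent.Lib.Helper14.Punct.CechC5

/-!
# Connectedness of the punctured spectrum: henselian local ring vs. "completion" (helper14)

`S → T` faithfully flat local with `𝔪_S T = 𝔪_T` and `S` dense in `T` for the `𝔪_T`-adic topology,
`S` Noetherian henselian: the punctured spectrum of `T` is preconnected iff that of `S` is.
-/

set_option autoImplicit false
universe u

namespace Groth.Agent.Lib.Helper14.Punct

open IsLocalRing PrimeSpectrum

theorem punct_eq_compl_closedPoint {R : Type u} [CommRing R] [IsLocalRing R] {ι : Type}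
    (t : ι → R) (hspan : Ideal.span (Set.range t) = maximalIdeal R) :
    punct t = ({closedPoint R}ᶜ : Set (PrimeSpectrum R)) := by
  ext p
  simp only [punct, Set.mem_iUnion, SetLike.mem_coe, mem_basicOpen, Set.mem_compl_iff,
    Set.mem_singleton_iff]
  constructor
  · rintro ⟨j, hj⟩ hp
    apply hj
    rw [hp]
    show t j ∈ maximalIdeal R
    rw [← hspan]; exact Ideal.subset_span ⟨j, rfl⟩
  · intro hp
    by_contra hcon
    rw [not_exists] at hcon
    apply hp
    apply PrimeSpectrum.ext
    show p.asIdeal = maximalIdeal R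
    apply le_antisymm (IsLocalRing.le_maximalIdeal p.2.ne_top)
    rw [← hspan, Ideal.span_le]
    rintro _ ⟨j, rfl⟩
    exact not_not.mp (hcon j)

variable {S T : Type u} [CommRing S] [CommRing T] [IsLocalRing T] [Algebra S T]
  [Module.FaithfullyFlat S T]

section up

variable [HenselianLocalRing S] [IsNoetherianRing S]

theorem punctured_isPreconnected_up
    (hm : (maximalIdeal S).map (algebraMap S T) = maximalIdeal T)
    (hdense : ∀ (N : ℕ) (a : T), ∃ s : S, a - algebraMap S T s ∈ maximalIdeal T ^ N)
    (hS : IsPreconnected ({closedPoint S}ᶜ : Set (PrimeSpectrum S))) :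
    IsPreconnected ({closedPoint T}ᶜ : Set (PrimeSpectrum T)) := by
  obtain ⟨n, t, ht⟩ := Submodule.fg_iff_exists_fin_generating_family.mp
    (IsNoetherian.noetherian (maximalIdeal S))
  have hspan : Ideal.span (Set.range t) = maximalIdeal S := ht
  obtain ⟨t', ht'⟩ : ∃ t' : Fin n → T, ∀ j, t' j = algebraMap S T (t j) := ⟨_, fun _ => rfl⟩
  have hspan' : Ideal.span (Set.range t') = maximalIdeal T := by
    rw [← hm, ← hspan, Ideal.map_span, ← Set.range_comp]
    congr 2
    funext j
    exact ht' j
  rw [← punct_eq_compl_closedPoint t hspan] at hS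
  rw [← punct_eq_compl_closedPoint t' hspan']
  apply isPreconnected_of_forall t'
  refine trivial_idem_up t t' ht' hm (fun j => ?_) ?_
    (fun e₀ he₀ => eq_zero_or_eq_one_of_isPreconnected t hS e₀ he₀)
  · rw [← hspan]; exact Ideal.subset_span ⟨j, rfl⟩
  · intro 𝔞 h𝔞 a
    have hle : maximalIdeal S ≤ 𝔞.radical := by
      rw [← hspan, Ideal.span_le]
      rintro _ ⟨j, rfl⟩
      exact h𝔞 j
    obtain ⟨k, hk⟩ := Ideal.exists_pow_le_of_le_radical_of_fg hle
      (IsNoetherian.noetherian (maximalIdeal S))
    obtain ⟨s, hs⟩ := hdense k a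
    refine ⟨s, ?_⟩
    rw [← hm, ← Ideal.map_pow] at hs
    exact Ideal.map_mono hk hs

end up

section down

variable [IsLocalRing S]

theorem punctured_isPreconnected_down
    (hm : (maximalIdeal S).map (algebraMap S T) = maximalIdeal T)
    (hT : IsPreconnected ({closedPoint T}ᶜ : Set (PrimeSpectrum T))) :
    IsPreconnected ({closedPoint S}ᶜ : Set (PrimeSpectrum S)) := by
  have himg : ({closedPoint S}ᶜ : Set (PrimeSpectrum S)) =
      comap (algebraMap S T) '' ({closedPoint T}ᶜ : Set (PrimeSpectrum T)) := by
    ext p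
    simp only [Set.mem_compl_iff, Set.mem_singleton_iff, Set.mem_image]
    constructor
    · intro hp
      obtain ⟨q, rfl⟩ := PrimeSpectrum.comap_surjective_of_faithfullyFlat (A := S) (B := T) p
      refine ⟨q, fun hq => hp ?_, rfl⟩
      rw [hq]
      apply PrimeSpectrum.ext
      show (maximalIdeal T).comap (algebraMap S T) = maximalIdeal S
      have h1 : maximalIdeal S ≤ (maximalIdeal T).comap (algebraMap S T) := by
        rw [← Ideal.map_le_iff_le_comap, hm]
      have h2 : ((maximalIdeal T).comap (algebraMap S T)) ≠ ⊤ :=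
        (Ideal.comap_isPrime (algebraMap S T) (maximalIdeal T)).ne_top
      exact le_antisymm (IsLocalRing.le_maximalIdeal h2) h1
    · rintro ⟨q, hq, rfl⟩ hp
      apply hq
      apply PrimeSpectrum.ext
      show q.asIdeal = maximalIdeal T
      apply le_antisymm (IsLocalRing.le_maximalIdeal q.2.ne_top)
      rw [← hm, Ideal.map_le_iff_le_comap]
      have : (comap (algebraMap S T) q).asIdeal = maximalIdeal S := by rw [hp]; rfl
      rw [← this]
      exact le_rfl
  rw [himg]
  exact hT.image _ (continuous_comap (algebraMap S T)).continuousOn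

end down

end Groth.Agent.Lib.Helper14.Punct
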