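import Mathlib
import Groth.Agent.Lib.Helper14.Punct.CechD
import Groth.Agent.Lib.Helper8.HenselQuot

/-!
# One-dimensional minimal primes of the completion come from the henselization (helper14)
-/

set_option autoImplicit false
universe u

namespace Groth.Agent.Lib.Helper14.Punct

open IsLocalRing PrimeSpectrum

/-- In a Noetherian local ring with preconnected punctured spectrum, a minimal prime `q` with
`V(q) = {q, 𝔪}`, `q ≠ 𝔪`, is the only minimal prime. -/
theorem minimalPrime_unique {R : Type*} [CommRing R] [IsLocalRing R] [IsNoetherianRing R]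
    (hU : IsPreconnected ({closedPoint R}ᶜ : Set (PrimeSpectrum R)))
    (q : Ideal R) (hq : q ∈ minimalPrimes R) (hqm : q ≠ maximalIdeal R)
    (hV : ∀ P : Ideal R, P.IsPrime → q ≤ P → P = q ∨ P = maximalIdeal R)
    (q₂ : Ideal R) (hq₂ : q₂ ∈ minimalPrimes R) : q₂ = q := by
  by_contra hne
  have hfin : (minimalPrimes R).Finite := minimalPrimes.finite_of_isNoetherianRing R
  haveI hqp : q.IsPrime := hq.1.1
  haveI hq₂p : q₂.IsPrime := hq₂.1.1
  set Z₂ : Set (PrimeSpectrum R) := ⋃ p ∈ (minimalPrimes R \ {q}), zeroLocus (p : Set R) with hZ₂def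
  have hZ₂ : IsClosed Z₂ := Set.Finite.isClosed_biUnion (hfin.subset Set.diff_subset)
    (fun p _ => isClosed_zeroLocus _)
  have hqZ₂ : ∀ p : PrimeSpectrum R, p.asIdeal = q → p ∉ Z₂ := by
    intro p hp hpZ
    simp only [hZ₂def, Set.mem_iUnion, mem_zeroLocus, SetLike.coe_subset_coe] at hpZ
    obtain ⟨p', ⟨hp'min, hp'ne⟩, hle⟩ := hpZ
    rw [hp] at hle
    haveI := hp'min.1.1
    exact hp'ne (le_antisymm hle (hq.2 ⟨hp'min.1.1, bot_le⟩ hle))
  have hcov : ({closedPoint R}ᶜ : Set (PrimeSpectrum R)) ⊆ Z₂ᶜ ∪ (zeroLocus (q : Set R))ᶜ := by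
    intro p hp
    by_cases hpq : p ∈ zeroLocus (q : Set R)
    · left
      rw [mem_zeroLocus, SetLike.coe_subset_coe] at hpq
      rcases hV p.asIdeal p.2 hpq with h | h
      · exact hqZ₂ p h
      · exact absurd (PrimeSpectrum.ext h) hp
    · right; exact hpq
  have h1 : (({closedPoint R}ᶜ : Set (PrimeSpectrum R)) ∩ Z₂ᶜ).Nonempty := by
    refine ⟨⟨q, hqp⟩, ?_, hqZ₂ _ rfl⟩
    intro h
    exact hqm (congrArg PrimeSpectrum.asIdeal h)
  have h2 : (({closedPoint R}ᶜ : Set (PrimeSpectrum R)) ∩ (zeroLocus (q : Set R))ᶜ).Nonempty := by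
    refine ⟨⟨q₂, hq₂p⟩, ?_, ?_⟩
    · intro h
      have h3 : q₂ = maximalIdeal R := congrArg PrimeSpectrum.asIdeal h
      have h4 : q ≤ q₂ := h3 ▸ IsLocalRing.le_maximalIdeal hqp.ne_top
      exact hne (le_antisymm (hq₂.2 ⟨hqp, bot_le⟩ h4) h4)
    · intro h
      rw [mem_zeroLocus, SetLike.coe_subset_coe] at h
      exact hne (le_antisymm (hq₂.2 ⟨hqp, bot_le⟩ h) h)
  obtain ⟨p, -, hpu, hpv⟩ := hU _ _ hZ₂.isOpen_compl (isClosed_zeroLocus _).isOpen_compl hcov h1 h2
  obtain ⟨p₀, hp₀, hle⟩ := Ideal.exists_minimalPrimes_le (I := ⊥) (J := p.asIdeal) bot_le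
  by_cases h : p₀ = q
  · apply hpv
    rw [mem_zeroLocus, SetLike.coe_subset_coe, ← h]
    exact hle
  · apply hpu
    simp only [hZ₂def, Set.mem_iUnion, mem_zeroLocus, SetLike.coe_subset_coe]
    exact ⟨p₀, ⟨hp₀, h⟩, hle⟩

theorem isPreconnected_punctured_of_isDomain (R : Type*) [CommRing R] [IsLocalRing R]
    [IsDomain R] : IsPreconnected ({closedPoint R}ᶜ : Set (PrimeSpectrum R)) := by
  have h1 : IsPreirreducible (Set.univ : Set (PrimeSpectrum R)) :=
    (IrreducibleSpace.isIrreducible_univ _).isPreirreducible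
  have h2 : IsOpen ({closedPoint R}ᶜ : Set (PrimeSpectrum R)) :=
    (isClosed_singleton_iff_isMaximal _ |>.mpr
      (by show (maximalIdeal R).IsMaximal; infer_instance)).isOpen_compl
  exact (h1.open_subset h2 (Set.subset_univ _)).isPreconnected

theorem map_maximalIdeal_of_surjective {R R' : Type*} [CommRing R] [CommRing R'] [IsLocalRing R]
    [IsLocalRing R'] (f : R →+* R') (hf : Function.Surjective f) :
    (maximalIdeal R).map f = maximalIdeal R' := by
  apply le_antisymm
  · rw [Ideal.map_le_iff_le_comap]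
    intro x hx
    rw [Ideal.mem_comap, mem_maximalIdeal, mem_nonunits_iff]
    intro hu
    haveI : IsLocalHom f := hf.isLocalHom f
    exact hx (isUnit_of_map_unit f x hu)
  · intro y hy
    obtain ⟨x, rfl⟩ := hf y
    apply Ideal.mem_map_of_mem
    rw [mem_maximalIdeal, mem_nonunits_iff]
    intro hu
    exact hy (hu.map f)

section main

variable {S T : Type u} [CommRing S] [HenselianLocalRing S] [IsNoetherianRing S]
  [CommRing T] [IsLocalRing T] [IsNoetherianRing T] [Algebra S T] [Module.FaithfullyFlat S T]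

theorem exists_minimalPrime_radical_eq
    (hm : (maximalIdeal S).map (algebraMap S T) = maximalIdeal T)
    (hdense : ∀ (N : ℕ) (a : T), ∃ s : S, a - algebraMap S T s ∈ maximalIdeal T ^ N)
    (q : Ideal T) (hq : q ∈ minimalPrimes T) (hdim : ringKrullDim (T ⧸ q) = 1) :
    ∃ q' ∈ minimalPrimes S, (Ideal.map (algebraMap S T) q').radical = q := by
  classical
  haveI hqp : q.IsPrime := hq.1.1
  obtain ⟨q', hq'def⟩ : ∃ q' : Ideal S, q' = q.comap (algebraMap S T) := ⟨_, rfl⟩
  haveI hq'p : q'.IsPrime := hq'def ▸ Ideal.comap_isPrime _ _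
  have hq'min : q' ∈ minimalPrimes S := by
    refine ⟨⟨hq'p, bot_le⟩, fun p ⟨hp, _⟩ hle => ?_⟩
    haveI := hp
    haveI : q.LiesOver q' := ⟨hq'def⟩
    obtain ⟨P, hPq, hPp, hPo⟩ := Ideal.exists_ideal_le_liesOver_of_le (p := p) (q := q') q hle
    have h1 : q ≤ P := hq.2 ⟨hPp, bot_le⟩ hPq
    have hPq' : P = q := le_antisymm hPq h1
    rw [hPo.over, hPq', hq'def]
  refine ⟨q', hq'min, ?_⟩
  obtain ⟨I, hI⟩ : ∃ I : Ideal T, I = q'.map (algebraMap S T) := ⟨_, rfl⟩
  have hIq : I ≤ q := by rw [hI, hq'def]; exact Ideal.map_comap_le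
  have hq'ne : q' ≠ ⊤ := hq'p.ne_top
  have hIne : I ≠ ⊤ := fun h => hqp.ne_top (top_le_iff.mp (h ▸ hIq))
  subst hI
  haveI : HenselianLocalRing (S ⧸ q') :=
    Groth.Agent.Lib.Helper8.henselianLocalRing_quotient S q' hq'ne
  haveI : Nontrivial (T ⧸ q'.map (algebraMap S T)) := Ideal.Quotient.nontrivial_iff.mpr hIne
  haveI : IsLocalRing (T ⧸ q'.map (algebraMap S T)) :=
    IsLocalRing.of_surjective' (Ideal.Quotient.mk _) Ideal.Quotient.mk_surjective
  haveI : IsDomain (S ⧸ q') := Ideal.Quotient.isDomain q'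
  haveI : Module.Flat (S ⧸ q') (T ⧸ q'.map (algebraMap S T)) :=
    Module.Flat.of_linearEquiv
      (Algebra.TensorProduct.quotIdealMapEquivQuotTensor T q').toLinearEquiv
  have hmS : maximalIdeal (S ⧸ q') = (maximalIdeal S).map (Ideal.Quotient.mk q') :=
    (map_maximalIdeal_of_surjective _ Ideal.Quotient.mk_surjective).symm
  have hmT : maximalIdeal (T ⧸ q'.map (algebraMap S T)) =
      (maximalIdeal T).map (Ideal.Quotient.mk (q'.map (algebraMap S T))) :=
    (map_maximalIdeal_of_surjective _ Ideal.Quotient.mk_surjective).symm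
  have hm₀ : (maximalIdeal (S ⧸ q')).map (algebraMap (S ⧸ q') (T ⧸ q'.map (algebraMap S T))) =
      maximalIdeal (T ⧸ q'.map (algebraMap S T)) := by
    rw [hmS, hmT, ← hm, Ideal.map_map, Ideal.map_map]
    congr 1
  haveI : IsLocalHom (algebraMap (S ⧸ q') (T ⧸ q'.map (algebraMap S T))) := by
    refine ⟨fun x hx => ?_⟩
    by_contra hnu
    have h1 : x ∈ maximalIdeal (S ⧸ q') := hnu
    have h2 : algebraMap _ (T ⧸ q'.map (algebraMap S T)) x ∈
        maximalIdeal (T ⧸ q'.map (algebraMap S T)) := hm₀ ▸ Ideal.mem_map_of_mem _ h1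
    exact h2 hx
  haveI : Module.FaithfullyFlat (S ⧸ q') (T ⧸ q'.map (algebraMap S T)) :=
    Module.FaithfullyFlat.of_flat_of_isLocalHom
  have hdense₀ : ∀ (N : ℕ) (a : T ⧸ q'.map (algebraMap S T)), ∃ s : S ⧸ q',
      a - algebraMap _ _ s ∈ maximalIdeal (T ⧸ q'.map (algebraMap S T)) ^ N := by
    intro N a
    obtain ⟨a, rfl⟩ := Ideal.Quotient.mk_surjective a
    obtain ⟨s, hs⟩ := hdense N a
    refine ⟨Ideal.Quotient.mk q' s, ?_⟩
    rw [hmT, ← Ideal.map_pow]
    have : Ideal.Quotient.mk (q'.map (algebraMap S T)) a -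
        algebraMap (S ⧸ q') (T ⧸ q'.map (algebraMap S T)) (Ideal.Quotient.mk q' s) =
        Ideal.Quotient.mk (q'.map (algebraMap S T)) (a - algebraMap S T s) := by
      rw [map_sub]; rfl
    rw [this]
    exact Ideal.mem_map_of_mem _ hs
  have hconn := punctured_isPreconnected_up hm₀ hdense₀
    (isPreconnected_punctured_of_isDomain (S ⧸ q'))
  have hsurj : Function.Surjective (Ideal.Quotient.mk (q'.map (algebraMap S T))) :=
    Ideal.Quotient.mk_surjective
  obtain ⟨qb, hqb⟩ : ∃ qb : Ideal (T ⧸ q'.map (algebraMap S T)),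
      qb = q.map (Ideal.Quotient.mk (q'.map (algebraMap S T))) := ⟨_, rfl⟩
  have hcomap : qb.comap (Ideal.Quotient.mk (q'.map (algebraMap S T))) = q := by
    rw [hqb, Ideal.comap_map_of_surjective _ hsurj, ← RingHom.ker_eq_comap_bot, Ideal.mk_ker]
    exact sup_eq_left.mpr hIq
  have hqImin : q ∈ (q'.map (algebraMap S T)).minimalPrimes :=
    ⟨⟨hqp, hIq⟩, fun p ⟨hp, _⟩ hle => hq.2 ⟨hp, bot_le⟩ hle⟩
  have hqbmin : qb ∈ minimalPrimes (T ⧸ q'.map (algebraMap S T)) := by
    rw [Ideal.minimalPrimes_eq_comap] at hqImin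
    obtain ⟨qb', hqb', hc⟩ := hqImin
    have : qb' = qb := by
      rw [hqb, ← hc, Ideal.map_comap_of_surjective _ hsurj]
    exact this ▸ hqb'
  -- dimension one
  haveI : IsDomain (T ⧸ q) := Ideal.Quotient.isDomain q
  haveI hK : Ring.KrullDimLE 1 (T ⧸ q) := Ring.krullDimLE_iff.mpr (by rw [hdim]; rfl)
  have hdim1 : ∀ P : Ideal T, P.IsPrime → q ≤ P → P = q ∨ P = maximalIdeal T := by
    intro P hP hle
    by_cases hPq : P = q
    · exact Or.inl hPq
    · right
      have hker : RingHom.ker (Ideal.Quotient.mk q) ≤ P := by rw [Ideal.mk_ker]; exact hle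
      have hPb : (P.map (Ideal.Quotient.mk q)).IsPrime :=
        Ideal.map_isPrime_of_surjective Ideal.Quotient.mk_surjective hker
      have hc : (P.map (Ideal.Quotient.mk q)).comap (Ideal.Quotient.mk q) = P := by
        rw [Ideal.comap_map_of_surjective _ Ideal.Quotient.mk_surjective,
          ← RingHom.ker_eq_comap_bot, Ideal.mk_ker]
        exact sup_eq_left.mpr hle
      have hne : P.map (Ideal.Quotient.mk q) ≠ ⊥ := by
        intro h0
        apply hPq
        rw [← hc, h0, ← RingHom.ker_eq_comap_bot, Ideal.mk_ker]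
      have hmax := Ring.krullDimLE_one_iff_of_noZeroDivisors.mp hK _ hne hPb
      have : P.IsMaximal := by
        rw [← hc]
        exact Ideal.comap_isMaximal_of_surjective _ Ideal.Quotient.mk_surjective
      exact IsLocalRing.eq_maximalIdeal this
  have hqm : q ≠ maximalIdeal T := by
    intro h
    have hf : IsField (T ⧸ q) := by
      rw [← Ideal.Quotient.maximal_ideal_iff_isField_quotient, h]
      infer_instance
    have := ringKrullDim_eq_zero_of_isField hf
    rw [hdim] at this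
    exact one_ne_zero this
  have hmcomap : (maximalIdeal (T ⧸ q'.map (algebraMap S T))).comap
      (Ideal.Quotient.mk (q'.map (algebraMap S T))) = maximalIdeal T := by
    rw [hmT, Ideal.comap_map_of_surjective _ hsurj, ← RingHom.ker_eq_comap_bot, Ideal.mk_ker]
    exact sup_eq_left.mpr (IsLocalRing.le_maximalIdeal hIne)
  have hqbm : qb ≠ maximalIdeal (T ⧸ q'.map (algebraMap S T)) := by
    intro h
    apply hqm
    rw [← hcomap, h, hmcomap]
  have hVb : ∀ P : Ideal (T ⧸ q'.map (algebraMap S T)), P.IsPrime → qb ≤ P →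
      P = qb ∨ P = maximalIdeal (T ⧸ q'.map (algebraMap S T)) := by
    intro P hP hle
    have h1 : q ≤ P.comap (Ideal.Quotient.mk (q'.map (algebraMap S T))) :=
      hcomap ▸ Ideal.comap_mono hle
    rcases hdim1 _ (Ideal.comap_isPrime _ _) h1 with h | h
    · left
      rw [hqb, ← h, Ideal.map_comap_of_surjective _ hsurj]
    · right
      rw [hmT, ← h, Ideal.map_comap_of_surjective _ hsurj]
  have huniq := minimalPrime_unique hconn qb hqbmin hqbm hVb
  have hmin : (q'.map (algebraMap S T)).minimalPrimes = {q} := by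
    rw [Ideal.minimalPrimes_eq_comap]
    ext p
    simp only [Set.mem_image, Set.mem_singleton_iff]
    constructor
    · rintro ⟨pb, hpb, rfl⟩
      rw [huniq pb hpb, hcomap]
    · rintro rfl
      exact ⟨qb, hqbmin, hcomap⟩
  rw [← Ideal.sInf_minimalPrimes, hmin, sInf_singleton]

end main

end Groth.Agent.Lib.Helper14.Punct
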