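import Mathlib
import Groth.Agent.Lib.Helper14.Punct.MinPrime
import Groth.Agent.Lib.Helper8.ComplDim
import Groth.Agent.Lib.Helper14.StrictEquidim

/-!
# Dimension one: minimal primes of a "completion-like" extension of a henselian local ring
-/

set_option autoImplicit false
universe u

namespace Groth.Agent.Lib.Helper14.Punct

open IsLocalRing

/-- Going down: the contraction of a minimal prime along a flat map is a minimal prime. -/
theorem comap_mem_minimalPrimes_of_flat {S T : Type*} [CommRing S] [CommRing T] [Algebra S T]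
    [Module.Flat S T] {Q : Ideal T} (hQ : Q ∈ minimalPrimes T) :
    Q.comap (algebraMap S T) ∈ minimalPrimes S := by
  haveI hqp : Q.IsPrime := hQ.1.1
  refine ⟨⟨Ideal.comap_isPrime _ _, bot_le⟩, fun p ⟨hp, _⟩ hle => ?_⟩
  haveI := hp
  haveI : Q.LiesOver (Q.comap (algebraMap S T)) := ⟨rfl⟩
  obtain ⟨P, hPq, hPp, hPo⟩ := Ideal.exists_ideal_le_liesOver_of_le (p := p)
    (q := Q.comap (algebraMap S T)) Q hle
  have h1 : Q ≤ P := hQ.2 ⟨hPp, bot_le⟩ hPq
  have hPq' : P = Q := le_antisymm hPq h1
  rw [hPo.over, hPq']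

/-- For a flat local homomorphism `A → T` of Noetherian local rings with `𝔪_A T = 𝔪_T` and
`dim A = 1`, every minimal prime `Q` of `T` has `dim T/Q = 1`. -/
theorem ringKrullDim_quotient_minimalPrime_eq_one {A T : Type u} [CommRing A] [IsLocalRing A]
    [IsNoetherianRing A] [CommRing T] [IsLocalRing T] [IsNoetherianRing T] [Algebra A T]
    [IsLocalHom (algebraMap A T)] [Module.Flat A T]
    (hm : (maximalIdeal A).map (algebraMap A T) = maximalIdeal T) (hA : ringKrullDim A = 1)
    {Q : Ideal T} (hQ : Q ∈ minimalPrimes T) : ringKrullDim (T ⧸ Q) = 1 := by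
  haveI : Q.IsPrime := hQ.1.1
  have hdimT : ringKrullDim T = 1 := (Groth.Agent.Lib.Helper8.ringKrullDim_eq_of_flat hm).trans hA
  apply le_antisymm ((ringKrullDim_quotient_le Q).trans hdimT.le)
  apply Groth.Agent.Lib.Helper14.StrictEquidim.one_le_of_not_le_zero
  intro hle
  haveI : Ring.KrullDimLE 0 (T ⧸ Q) := Ring.krullDimLE_iff.2 (by simpa using hle)
  have hfield : IsField (T ⧸ Q) := Ring.KrullDimLE.isField_of_isDomain
  have hQmax : Q.IsMaximal := Ideal.Quotient.maximal_of_isField Q hfield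
  have hQeq : Q = maximalIdeal T := IsLocalRing.eq_maximalIdeal hQmax
  have h1 := comap_mem_minimalPrimes_of_flat (S := A) hQ
  rw [hQeq, IsLocalRing.maximalIdeal_comap] at h1
  have h2 : (maximalIdeal A).height = 0 := Ideal.height_eq_zero_iff.mpr h1
  rw [← IsLocalRing.maximalIdeal_height_eq_ringKrullDim, h2] at hA
  simp at hA

section main

variable {S T : Type u} [CommRing S] [HenselianLocalRing S] [IsNoetherianRing S]
  [CommRing T] [IsLocalRing T] [IsNoetherianRing T] [Algebra S T] [Module.FaithfullyFlat S T]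

theorem eq_radical_map_comap
    (hm : (maximalIdeal S).map (algebraMap S T) = maximalIdeal T)
    (hdense : ∀ (N : ℕ) (a : T), ∃ s : S, a - algebraMap S T s ∈ maximalIdeal T ^ N)
    (hdimT : ∀ Q ∈ minimalPrimes T, ringKrullDim (T ⧸ Q) = 1)
    {Q : Ideal T} (hQ : Q ∈ minimalPrimes T) :
    ((Q.comap (algebraMap S T)).map (algebraMap S T)).radical = Q := by
  obtain ⟨q', hq', hrad⟩ := exists_minimalPrime_radical_eq hm hdense Q hQ (hdimT Q hQ)
  have hcm := comap_mem_minimalPrimes_of_flat (S := S) hQ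
  have hle : q' ≤ Q.comap (algebraMap S T) := by
    rw [← Ideal.map_le_iff_le_comap, ← hrad]
    exact Ideal.le_radical
  have heq : Q.comap (algebraMap S T) = q' := le_antisymm (hcm.2 ⟨hq'.1.1, bot_le⟩ hle) hle
  rw [heq, hrad]

theorem radical_map_isPrime
    (hm : (maximalIdeal S).map (algebraMap S T) = maximalIdeal T)
    (hdense : ∀ (N : ℕ) (a : T), ∃ s : S, a - algebraMap S T s ∈ maximalIdeal T ^ N)
    (hdimT : ∀ Q ∈ minimalPrimes T, ringKrullDim (T ⧸ Q) = 1)
    {q : Ideal S} (hq : q ∈ minimalPrimes S) :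
    (q.map (algebraMap S T)).radical.IsPrime := by
  haveI : q.IsPrime := hq.1.1
  obtain ⟨P, hPp, hPo⟩ := Ideal.exists_isPrime_liesOver_of_faithfullyFlat (B := T) q
  obtain ⟨Q, hQ, hQP⟩ := Ideal.exists_minimalPrimes_le (I := ⊥) (J := P) bot_le
  have hcm := comap_mem_minimalPrimes_of_flat (S := S) hQ
  have hle : Q.comap (algebraMap S T) ≤ q := by
    rw [hPo.over]
    exact Ideal.comap_mono hQP
  have heq : Q.comap (algebraMap S T) = q := le_antisymm hle (hq.2 ⟨hcm.1.1, bot_le⟩ hle)
  rw [← heq, eq_radical_map_comap hm hdense hdimT hQ]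
  exact hQ.1.1

theorem card_minimalPrimes_le_of_dim_one
    (hm : (maximalIdeal S).map (algebraMap S T) = maximalIdeal T)
    (hdense : ∀ (N : ℕ) (a : T), ∃ s : S, a - algebraMap S T s ∈ maximalIdeal T ^ N)
    (hdimT : ∀ Q ∈ minimalPrimes T, ringKrullDim (T ⧸ Q) = 1) :
    ENat.card (minimalPrimes T) ≤ ENat.card (minimalPrimes S) := by
  let F : minimalPrimes T → minimalPrimes S := fun Q =>
    ⟨Q.1.comap (algebraMap S T), comap_mem_minimalPrimes_of_flat Q.2⟩
  have hF : Function.Injective F := by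
    intro Q₁ Q₂ h
    have h' : Q₁.1.comap (algebraMap S T) = Q₂.1.comap (algebraMap S T) :=
      congrArg Subtype.val h
    apply Subtype.ext
    rw [← eq_radical_map_comap hm hdense hdimT Q₁.2,
      ← eq_radical_map_comap hm hdense hdimT Q₂.2, h']
  exact ENat.card_le_card_of_injective hF

end main

end Groth.Agent.Lib.Helper14.Punct
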