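import Mathlib
import Groth.Agent.Lib.Helper14.Punct.MinPrime
import Groth.Agent.Lib.Helper8.ComplDim

/-!
# Relative version: primes of dimension one minimal over an extended ideal (helper14)
-/

set_option autoImplicit false
universe u

namespace Groth.Agent.Lib.Helper14.Punct

open IsLocalRing PrimeSpectrum

/-- Going down: a minimal prime over `pR'` contracts to `p` (flat case). -/
theorem comap_eq_of_mem_minimalPrimes_map {R R' : Type*} [CommRing R] [CommRing R'] [Algebra R R']
    [Module.Flat R R'] (p : Ideal R) [p.IsPrime] {Q : Ideal R'}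
    (hQ : Q ∈ (p.map (algebraMap R R')).minimalPrimes) : Q.comap (algebraMap R R') = p := by
  haveI hQp : Q.IsPrime := hQ.1.1
  have hle : p ≤ Q.comap (algebraMap R R') := Ideal.map_le_iff_le_comap.mp hQ.1.2
  haveI : (Q.comap (algebraMap R R')).IsPrime := Ideal.comap_isPrime _ _
  haveI : Q.LiesOver (Q.comap (algebraMap R R')) := ⟨rfl⟩
  obtain ⟨P, hPQ, hPp, hPover⟩ := Ideal.exists_ideal_le_liesOver_of_le Q hle
  have hPp' : p = P.comap (algebraMap R R') := hPover.over
  have hJP : p.map (algebraMap R R') ≤ P := by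
    rw [Ideal.map_le_iff_le_comap, ← hPp']
  have hQP : Q ≤ P := hQ.2 ⟨hPp, hJP⟩ hPQ
  have : P = Q := le_antisymm hPQ hQP
  rw [← this, ← hPp']

/-- Going down: a minimal prime over `IR'` contracts to a minimal prime over `I` (flat case). -/
theorem comap_mem_minimalPrimes_of_mem_minimalPrimes_map {R R' : Type*} [CommRing R] [CommRing R']
    [Algebra R R'] [Module.Flat R R'] (I : Ideal R) {Q : Ideal R'}
    (hQ : Q ∈ (I.map (algebraMap R R')).minimalPrimes) :
    Q.comap (algebraMap R R') ∈ I.minimalPrimes := by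
  haveI hQp : Q.IsPrime := hQ.1.1
  refine ⟨⟨Ideal.comap_isPrime _ _, Ideal.map_le_iff_le_comap.mp hQ.1.2⟩, fun p' ⟨hp', hIp'⟩ hle => ?_⟩
  haveI := hp'
  haveI : Q.LiesOver (Q.comap (algebraMap R R')) := ⟨rfl⟩
  obtain ⟨P, hPQ, hPp, hPover⟩ := Ideal.exists_ideal_le_liesOver_of_le (p := p')
    (q := Q.comap (algebraMap R R')) Q hle
  have hPp' : p' = P.comap (algebraMap R R') := hPover.over
  have hJP : I.map (algebraMap R R') ≤ P := by
    rw [Ideal.map_le_iff_le_comap, ← hPp']
    exact hIp'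
  have hQP : Q ≤ P := hQ.2 ⟨hPp, hJP⟩ hPQ
  have : P = Q := le_antisymm hPQ hQP
  rw [hPp', this]

/-- `dim R/rad I = dim R/I`. -/
theorem ringKrullDim_quotient_radical {R : Type*} [CommRing R] (I : Ideal R) :
    ringKrullDim (R ⧸ I.radical) = ringKrullDim (R ⧸ I) := by
  rw [ringKrullDim_quotient, ringKrullDim_quotient, PrimeSpectrum.zeroLocus_radical]

section dim

variable {S T : Type u} [CommRing S] [IsLocalRing S] [IsNoetherianRing S]
  [CommRing T] [IsLocalRing T] [IsNoetherianRing T] [Algebra S T] [Module.FaithfullyFlat S T]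

/-- `dim T/q'T = dim S/q'` for a flat local homomorphism with `𝔪_S T = 𝔪_T`. -/
theorem ringKrullDim_quotient_map_eq
    (hm : (maximalIdeal S).map (algebraMap S T) = maximalIdeal T)
    (q' : Ideal S) (hq'ne : q' ≠ ⊤) :
    ringKrullDim (T ⧸ q'.map (algebraMap S T)) = ringKrullDim (S ⧸ q') := by
  have hIne : q'.map (algebraMap S T) ≠ ⊤ := by
    intro h
    apply hq'ne
    rw [← Ideal.comap_map_eq_self_of_faithfullyFlat (B := T) q', h, Ideal.comap_top]
  haveI : Nontrivial (S ⧸ q') := Ideal.Quotient.nontrivial_iff.mpr hq'ne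
  haveI : IsLocalRing (S ⧸ q') :=
    IsLocalRing.of_surjective' (Ideal.Quotient.mk _) Ideal.Quotient.mk_surjective
  haveI : Nontrivial (T ⧸ q'.map (algebraMap S T)) := Ideal.Quotient.nontrivial_iff.mpr hIne
  haveI : IsLocalRing (T ⧸ q'.map (algebraMap S T)) :=
    IsLocalRing.of_surjective' (Ideal.Quotient.mk _) Ideal.Quotient.mk_surjective
  haveI : Module.Flat (S ⧸ q') (T ⧸ q'.map (algebraMap S T)) :=
    Module.Flat.of_linearEquiv
      (Algebra.TensorProduct.quotIdealMapEquivQuotTensor T q').toLinearEquiv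
  have hmS : maximalIdeal (S ⧸ q') = (maximalIdeal S).map (Ideal.Quotient.mk q') :=
    (map_maximalIdeal_of_surjective _ Ideal.Quotient.mk_surjective).symm
  have hmT : maximalIdeal (T ⧸ q'.map (algebraMap S T)) =
      (maximalIdeal T).map (Ideal.Quotient.mk (q'.map (algebraMap S T))) :=
    (map_maximalIdeal_of_surjective _ Ideal.Quotient.mk_surjective).symm
  have hm₀ : (maximalIdeal (S ⧸ q')).map (algebraMap (S ⧸ q') (T ⧸ q'.map (algebraMap S T))) =
      maximalIdeal (T ⧸ q'.map (algebraMap S T)) := by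
    rw [hmS, hmT, ← hm, Ideal.map_map, Ideal.map_map]
    congr 1
  haveI : IsLocalHom (algebraMap (S ⧸ q') (T ⧸ q'.map (algebraMap S T))) := by
    refine ⟨fun x hx => ?_⟩
    by_contra hnu
    have h1 : x ∈ maximalIdeal (S ⧸ q') := hnu
    have h2 : algebraMap _ (T ⧸ q'.map (algebraMap S T)) x ∈
        maximalIdeal (T ⧸ q'.map (algebraMap S T)) := hm₀ ▸ Ideal.mem_map_of_mem _ h1
    exact h2 hx
  exact Groth.Agent.Lib.Helper8.ringKrullDim_eq_of_flat hm₀

end dim

section main

variable {S T : Type u} [CommRing S] [HenselianLocalRing S] [IsNoetherianRing S]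
  [CommRing T] [IsLocalRing T] [IsNoetherianRing T] [Algebra S T] [Module.FaithfullyFlat S T]

/-- Relative version of `exists_minimalPrime_radical_eq`: a prime `q` of `T` with `dim T/q = 1`
which is minimal over `(q ∩ S)T` equals `rad((q ∩ S)T)`. -/
theorem radical_map_comap_eq
    (hm : (maximalIdeal S).map (algebraMap S T) = maximalIdeal T)
    (hdense : ∀ (N : ℕ) (a : T), ∃ s : S, a - algebraMap S T s ∈ maximalIdeal T ^ N)
    (q : Ideal T) [hqp : q.IsPrime]
    (hqImin₀ : q ∈ ((q.comap (algebraMap S T)).map (algebraMap S T)).minimalPrimes)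
    (hdim : ringKrullDim (T ⧸ q) = 1) :
    ((q.comap (algebraMap S T)).map (algebraMap S T)).radical = q := by
  classical
  obtain ⟨q', hq'def⟩ : ∃ q' : Ideal S, q' = q.comap (algebraMap S T) := ⟨_, rfl⟩
  haveI hq'p : q'.IsPrime := hq'def ▸ Ideal.comap_isPrime _ _
  rw [← hq'def] at hqImin₀ ⊢
  have hqImin : q ∈ (q'.map (algebraMap S T)).minimalPrimes := hqImin₀
  obtain ⟨I, hI⟩ : ∃ I : Ideal T, I = q'.map (algebraMap S T) := ⟨_, rfl⟩
  have hIq : I ≤ q := by rw [hI, hq'def]; exact Ideal.map_comap_le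
  have hq'ne : q' ≠ ⊤ := hq'p.ne_top
  have hIne : I ≠ ⊤ := fun h => hqp.ne_top (top_le_iff.mp (h ▸ hIq))
  subst hI
  haveI : HenselianLocalRing (S ⧸ q') :=
    Groth.Agent.Lib.Helper8.henselianLocalRing_quotient S q' hq'ne
  haveI : Nontrivial (T ⧸ q'.map (algebraMap S T)) := Ideal.Quotient.nontrivial_iff.mpr hIne
  haveI : IsLocalRing (T ⧸ q'.map (algebraMap S T)) :=
    IsLocalRing.of_surjective' (Ideal.Quotient.mk _) Ideal.Quotient.mk_surjective
  haveI : IsDomain (S ⧸ q') := Ideal.Quotient.isDomain q'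
  haveI : Module.Flat (S ⧸ q') (T ⧸ q'.map (algebraMap S T)) :=
    Module.Flat.of_linearEquiv
      (Algebra.TensorProduct.quotIdealMapEquivQuotTensor T q').toLinearEquiv
  have hmS : maximalIdeal (S ⧸ q') = (maximalIdeal S).map (Ideal.Quotient.mk q') :=
    (map_maximalIdeal_of_surjective _ Ideal.Quotient.mk_surjective).symm
  have hmT : maximalIdeal (T ⧸ q'.map (algebraMap S T)) =
      (maximalIdeal T).map (Ideal.Quotient.mk (q'.map (algebraMap S T))) :=
    (map_maximalIdeal_of_surjective _ Ideal.Quotient.mk_surjective).symm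
  have hm₀ : (maximalIdeal (S ⧸ q')).map (algebraMap (S ⧸ q') (T ⧸ q'.map (algebraMap S T))) =
      maximalIdeal (T ⧸ q'.map (algebraMap S T)) := by
    rw [hmS, hmT, ← hm, Ideal.map_map, Ideal.map_map]
    congr 1
  haveI : IsLocalHom (algebraMap (S ⧸ q') (T ⧸ q'.map (algebraMap S T))) := by
    refine ⟨fun x hx => ?_⟩
    by_contra hnu
    have h1 : x ∈ maximalIdeal (S ⧸ q') := hnu
    have h2 : algebraMap _ (T ⧸ q'.map (algebraMap S T)) x ∈
        maximalIdeal (T ⧸ q'.map (algebraMap S T)) := hm₀ ▸ Ideal.mem_map_of_mem _ h1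
    exact h2 hx
  haveI : Module.FaithfullyFlat (S ⧸ q') (T ⧸ q'.map (algebraMap S T)) :=
    Module.FaithfullyFlat.of_flat_of_isLocalHom
  have hdense₀ : ∀ (N : ℕ) (a : T ⧸ q'.map (algebraMap S T)), ∃ s : S ⧸ q',
      a - algebraMap _ _ s ∈ maximalIdeal (T ⧸ q'.map (algebraMap S T)) ^ N := by
    intro N a
    obtain ⟨a, rfl⟩ := Ideal.Quotient.mk_surjective a
    obtain ⟨s, hs⟩ := hdense N a
    refine ⟨Ideal.Quotient.mk q' s, ?_⟩
    rw [hmT, ← Ideal.map_pow]
    have : Ideal.Quotient.mk (q'.map (algebraMap S T)) a -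
        algebraMap (S ⧸ q') (T ⧸ q'.map (algebraMap S T)) (Ideal.Quotient.mk q' s) =
        Ideal.Quotient.mk (q'.map (algebraMap S T)) (a - algebraMap S T s) := by
      rw [map_sub]; rfl
    rw [this]
    exact Ideal.mem_map_of_mem _ hs
  have hconn := punctured_isPreconnected_up hm₀ hdense₀
    (isPreconnected_punctured_of_isDomain (S ⧸ q'))
  have hsurj : Function.Surjective (Ideal.Quotient.mk (q'.map (algebraMap S T))) :=
    Ideal.Quotient.mk_surjective
  obtain ⟨qb, hqb⟩ : ∃ qb : Ideal (T ⧸ q'.map (algebraMap S T)),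
      qb = q.map (Ideal.Quotient.mk (q'.map (algebraMap S T))) := ⟨_, rfl⟩
  have hcomap : qb.comap (Ideal.Quotient.mk (q'.map (algebraMap S T))) = q := by
    rw [hqb, Ideal.comap_map_of_surjective _ hsurj, ← RingHom.ker_eq_comap_bot, Ideal.mk_ker]
    exact sup_eq_left.mpr hIq
  have hqbmin : qb ∈ minimalPrimes (T ⧸ q'.map (algebraMap S T)) := by
    rw [Ideal.minimalPrimes_eq_comap] at hqImin
    obtain ⟨qb', hqb', hc⟩ := hqImin
    have : qb' = qb := by
      rw [hqb, ← hc, Ideal.map_comap_of_surjective _ hsurj]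
    exact this ▸ hqb'
  -- dimension one
  haveI : IsDomain (T ⧸ q) := Ideal.Quotient.isDomain q
  haveI hK : Ring.KrullDimLE 1 (T ⧸ q) := Ring.krullDimLE_iff.mpr (by rw [hdim]; rfl)
  have hdim1 : ∀ P : Ideal T, P.IsPrime → q ≤ P → P = q ∨ P = maximalIdeal T := by
    intro P hP hle
    by_cases hPq : P = q
    · exact Or.inl hPq
    · right
      have hker : RingHom.ker (Ideal.Quotient.mk q) ≤ P := by rw [Ideal.mk_ker]; exact hle
      have hPb : (P.map (Ideal.Quotient.mk q)).IsPrime :=
        Ideal.map_isPrime_of_surjective Ideal.Quotient.mk_surjective hker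
      have hc : (P.map (Ideal.Quotient.mk q)).comap (Ideal.Quotient.mk q) = P := by
        rw [Ideal.comap_map_of_surjective _ Ideal.Quotient.mk_surjective,
          ← RingHom.ker_eq_comap_bot, Ideal.mk_ker]
        exact sup_eq_left.mpr hle
      have hne : P.map (Ideal.Quotient.mk q) ≠ ⊥ := by
        intro h0
        apply hPq
        rw [← hc, h0, ← RingHom.ker_eq_comap_bot, Ideal.mk_ker]
      have hmax := Ring.krullDimLE_one_iff_of_noZeroDivisors.mp hK _ hne hPb
      have : P.IsMaximal := by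
        rw [← hc]
        exact Ideal.comap_isMaximal_of_surjective _ Ideal.Quotient.mk_surjective
      exact IsLocalRing.eq_maximalIdeal this
  have hqm : q ≠ maximalIdeal T := by
    intro h
    have hf : IsField (T ⧸ q) := by
      rw [← Ideal.Quotient.maximal_ideal_iff_isField_quotient, h]
      infer_instance
    have := ringKrullDim_eq_zero_of_isField hf
    rw [hdim] at this
    exact one_ne_zero this
  have hmcomap : (maximalIdeal (T ⧸ q'.map (algebraMap S T))).comap
      (Ideal.Quotient.mk (q'.map (algebraMap S T))) = maximalIdeal T := by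
    rw [hmT, Ideal.comap_map_of_surjective _ hsurj, ← RingHom.ker_eq_comap_bot, Ideal.mk_ker]
    exact sup_eq_left.mpr (IsLocalRing.le_maximalIdeal hIne)
  have hqbm : qb ≠ maximalIdeal (T ⧸ q'.map (algebraMap S T)) := by
    intro h
    apply hqm
    rw [← hcomap, h, hmcomap]
  have hVb : ∀ P : Ideal (T ⧸ q'.map (algebraMap S T)), P.IsPrime → qb ≤ P →
      P = qb ∨ P = maximalIdeal (T ⧸ q'.map (algebraMap S T)) := by
    intro P hP hle
    have h1 : q ≤ P.comap (Ideal.Quotient.mk (q'.map (algebraMap S T))) :=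
      hcomap ▸ Ideal.comap_mono hle
    rcases hdim1 _ (Ideal.comap_isPrime _ _) h1 with h | h
    · left
      rw [hqb, ← h, Ideal.map_comap_of_surjective _ hsurj]
    · right
      rw [hmT, ← h, Ideal.map_comap_of_surjective _ hsurj]
  have huniq := minimalPrime_unique hconn qb hqbmin hqbm hVb
  have hmin : (q'.map (algebraMap S T)).minimalPrimes = {q} := by
    rw [Ideal.minimalPrimes_eq_comap]
    ext p
    simp only [Set.mem_image, Set.mem_singleton_iff]
    constructor
    · rintro ⟨pb, hpb, rfl⟩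
      rw [huniq pb hpb, hcomap]
    · rintro rfl
      exact ⟨qb, hqbmin, hcomap⟩
  rw [← Ideal.sInf_minimalPrimes, hmin, sInf_singleton]

end main

end Groth.Agent.Lib.Helper14.Punct
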