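import Mathlib
import Groth.Prelude.Def_Hensel
import Groth.Agent.Lib.Helper8.HenselQuot

/-!
# Density of the map on strict henselizations

If `A → B` is a local homomorphism of local rings inducing isomorphisms `A/𝔪^N ≃ B/𝔪^N`
(e.g. `B` the completion of `A`), then the induced map `g : Aˢʰ → Bˢʰ` on strict henselizations
has dense image for the `𝔪`-adic topology.
-/

set_option autoImplicit false

universe u

open IsLocalRing

namespace Groth.Agent.Lib.Helper14.Punct.SHDense

open Groth.Agent.Lib.Helper8

section

variable {A B S T : Type u} [CommRing A] [IsLocalRing A] [CommRing B] [IsLocalRing B]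
  [CommRing S] [IsLocalRing S] [CommRing T] [IsLocalRing T]
  [Algebra A B] [IsLocalHom (algebraMap A B)]
  [Algebra A S] [IsLocalHom (algebraMap A S)]
  [Algebra B T] [IsLocalHom (algebraMap B T)]

/-- The residue field map of `g : Aˢʰ → Bˢʰ` is surjective when `κ(A) → κ(B)` is. -/
theorem residueField_map_surjective
    [Hensel.IsStrictHenselization A S] [Hensel.IsStrictHenselization B T]
    (g : S →+* T) [IsLocalHom g]
    (hg : g.comp (algebraMap A S) = (algebraMap B T).comp (algebraMap A B))
    (hres : ∀ b : B, ∃ a : A, b - algebraMap A B a ∈ maximalIdeal B) :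
    Function.Surjective (ResidueField.map g) := by
  have hscA := Hensel.IsStrictHenselization.isSepClosure (R := A) (S := S)
  have hscB := Hensel.IsStrictHenselization.isSepClosure (R := B) (S := T)
  haveI : IsSepClosed (ResidueField S) := hscA.sep_closed
  haveI : Algebra.IsSeparable (ResidueField B) (ResidueField T) := hscB.separable
  have hsurj : Function.Surjective (algebraMap (ResidueField A) (ResidueField B)) := by
    intro x
    obtain ⟨b, rfl⟩ := residue_surjective x
    obtain ⟨a, ha⟩ := hres b
    refine ⟨residue A a, ?_⟩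
    rw [ResidueField.algebraMap_residue]
    symm
    rw [← sub_eq_zero, ← map_sub, residue_eq_zero_iff]
    exact ha
  haveI : Algebra.IsSeparable (ResidueField A) (ResidueField B) :=
    ⟨fun x => by obtain ⟨a, rfl⟩ := hsurj x; exact isSeparable_algebraMap a⟩
  letI : Algebra (ResidueField A) (ResidueField T) :=
    ((algebraMap (ResidueField B) (ResidueField T)).comp
      (algebraMap (ResidueField A) (ResidueField B))).toAlgebra
  haveI : IsScalarTower (ResidueField A) (ResidueField B) (ResidueField T) :=
    IsScalarTower.of_algebraMap_eq (fun _ => rfl)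
  haveI : Algebra.IsSeparable (ResidueField A) (ResidueField T) :=
    Algebra.IsSeparable.trans (ResidueField A) (ResidueField B) (ResidueField T)
  letI : Algebra (ResidueField S) (ResidueField T) := (ResidueField.map g).toAlgebra
  haveI : IsScalarTower (ResidueField A) (ResidueField S) (ResidueField T) :=
    IsScalarTower.of_algebraMap_eq (fun x => by
      obtain ⟨a, rfl⟩ := residue_surjective x
      have h1 : algebraMap (ResidueField A) (ResidueField T) (residue A a) =
          residue T (algebraMap B T (algebraMap A B a)) := rfl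
      have h2 : algebraMap (ResidueField S) (ResidueField T)
          (algebraMap (ResidueField A) (ResidueField S) (residue A a)) =
          residue T (g (algebraMap A S a)) := rfl
      rw [h1, h2, ← RingHom.comp_apply g, hg]
      rfl)
  haveI : Algebra.IsSeparable (ResidueField S) (ResidueField T) :=
    Algebra.isSeparable_tower_top_of_isSeparable (ResidueField A) (ResidueField S)
      (ResidueField T)
  exact IsSepClosed.algebraMap_surjective (ResidueField S) (ResidueField T)

/-- Abstract density statement. -/
theorem exists_sub_mem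
    [Hensel.IsStrictHenselization A S] [Hensel.IsStrictHenselization B T]
    (g : S →+* T) [IsLocalHom g]
    (hg : g.comp (algebraMap A S) = (algebraMap B T).comp (algebraMap A B))
    (IS : Ideal S) (IT : Ideal T) (JB : Ideal B) (hIS : IS ≠ ⊤) (hIT : IT ≠ ⊤)
    (hST : IS ≤ IT.comap g) (hBT : JB ≤ IT.comap (algebraMap B T))
    (hJB : JB ≤ maximalIdeal B)
    (hdense : ∀ b : B, ∃ a : A, b - algebraMap A B a ∈ JB)
    (f : B →+* S ⧸ IS)
    (hf1 : f.comp (algebraMap A B) = (Ideal.Quotient.mk IS).comp (algebraMap A S))
    (hf2 : ∀ b ∈ JB, f b = 0) (hfloc : ∀ b ∈ maximalIdeal B, ¬ IsUnit (f b)) :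
    ∀ t : T, ∃ s : S, t - g s ∈ IT := by
  classical
  haveI : HenselianLocalRing S := Hensel.IsStrictHenselization.henselian (R := A)
  haveI : HenselianLocalRing T := Hensel.IsStrictHenselization.henselian (R := B)
  haveI hSN : HenselianLocalRing (S ⧸ IS) := henselianLocalRing_quotient S IS hIS
  haveI hTN : HenselianLocalRing (T ⧸ IT) := henselianLocalRing_quotient T IT hIT
  haveI hπS : IsLocalHom (Ideal.Quotient.mk IS) := isLocalHom_quotient_mk S IS hIS
  haveI hπT : IsLocalHom (Ideal.Quotient.mk IT) := isLocalHom_quotient_mk T IT hIT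
  haveI hfl : IsLocalHom f := ⟨fun b hb => by
    by_contra hnu
    exact hfloc b ((mem_maximalIdeal b).mpr hnu) hb⟩
  have hres : ∀ b : B, ∃ a : A, b - algebraMap A B a ∈ maximalIdeal B := fun b => by
    obtain ⟨a, ha⟩ := hdense b
    exact ⟨a, hJB ha⟩
  have hγ := residueField_map_surjective g hg hres
  have hγbij : Function.Bijective (ResidueField.map g) :=
    ⟨(ResidueField.map g).injective, hγ⟩
  let γe : ResidueField S ≃+* ResidueField T := RingEquiv.ofBijective _ hγbij
  let τ : ResidueField T →+* ResidueField (S ⧸ IS) :=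
    (ResidueField.map (Ideal.Quotient.mk IS)).comp γe.symm.toRingHom
  have hτγ : ∀ s : S, τ (residue T (g s)) = residue (S ⧸ IS) (Ideal.Quotient.mk IS s) := by
    intro s
    have h1 : residue T (g s) = γe (residue S s) := rfl
    have h2 : τ (γe (residue S s)) =
        ResidueField.map (Ideal.Quotient.mk IS) (γe.symm (γe (residue S s))) := rfl
    rw [h1, h2, RingEquiv.symm_apply_apply]
    rfl
  have hτ : τ.comp (ResidueField.map (algebraMap B T)) = ResidueField.map f := by
    refine RingHom.ext fun x => ?_
    obtain ⟨b, rfl⟩ := residue_surjective x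
    obtain ⟨a, ha⟩ := hres b
    have hb : residue B b = residue B (algebraMap A B a) := by
      rw [← sub_eq_zero, ← map_sub, residue_eq_zero_iff]
      exact ha
    rw [hb, RingHom.comp_apply, ResidueField.map_residue, ResidueField.map_residue]
    have h1 : algebraMap B T (algebraMap A B a) = g (algebraMap A S a) := by
      rw [← RingHom.comp_apply, ← hg]
      rfl
    have h2 : f (algebraMap A B a) = Ideal.Quotient.mk IS (algebraMap A S a) := by
      rw [← RingHom.comp_apply, hf1]
      rfl
    rw [h1, hτγ, h2]
  obtain ⟨h, ⟨hh1, hh2⟩, -⟩ :=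
    Hensel.IsStrictHenselization.universal (R := B) (S := T) (S ⧸ IS) f τ hτ
  let gbar : S ⧸ IS →+* T ⧸ IT := Ideal.quotientMap IT g hST
  have hgbar : ∀ s : S, gbar (Ideal.Quotient.mk IS s) = Ideal.Quotient.mk IT (g s) :=
    fun s => Ideal.quotientMap_mk
  let fB : B →+* T ⧸ IT := (Ideal.Quotient.mk IT).comp (algebraMap B T)
  haveI : IsLocalHom fB := RingHom.isLocalHom_comp _ _
  have hρ : (ResidueField.map (Ideal.Quotient.mk IT)).comp
      (ResidueField.map (algebraMap B T)) = ResidueField.map fB :=
    (ResidueField.map_comp _ _).symm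
  obtain ⟨h0, -, hun⟩ := Hensel.IsStrictHenselization.universal (R := B) (S := T) (T ⧸ IT) fB
    (ResidueField.map (Ideal.Quotient.mk IT)) hρ
  have hkey : gbar.comp h = Ideal.Quotient.mk IT := by
    refine (hun (gbar.comp h) ?_).trans (hun (Ideal.Quotient.mk IT) ?_).symm
    · refine ⟨?_, ?_⟩
      · refine RingHom.ext fun b => ?_
        obtain ⟨a, ha⟩ := hdense b
        have hb : b = algebraMap A B a + (b - algebraMap A B a) := by ring
        have e1 : h (algebraMap B T b) = f b := by rw [← RingHom.comp_apply, hh1]
        have e2 : f b = Ideal.Quotient.mk IS (algebraMap A S a) := by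
          rw [hb, map_add, hf2 _ ha, add_zero, ← RingHom.comp_apply, hf1]
          rfl
        have e3 : Ideal.Quotient.mk IT (algebraMap B T b) =
            Ideal.Quotient.mk IT (g (algebraMap A S a)) := by
          rw [Ideal.Quotient.eq]
          have : g (algebraMap A S a) = algebraMap B T (algebraMap A B a) := by
            rw [← RingHom.comp_apply, hg]
            rfl
          rw [this, ← map_sub]
          exact hBT ha
        change gbar (h (algebraMap B T b)) = Ideal.Quotient.mk IT (algebraMap B T b)
        rw [e1, e2, hgbar]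
        exact e3.symm
      · intro t
        obtain ⟨x, hx⟩ := hγ (residue T t)
        obtain ⟨s, rfl⟩ := residue_surjective x
        rw [ResidueField.map_residue] at hx
        have h1 : residue (S ⧸ IS) (h t) = residue (S ⧸ IS) (Ideal.Quotient.mk IS s) := by
          rw [hh2, ← hx, hτγ]
        have h2 : h t - Ideal.Quotient.mk IS s ∈ maximalIdeal (S ⧸ IS) := by
          rw [← residue_eq_zero_iff, map_sub, h1, sub_self]
        obtain ⟨s', hs'⟩ := Ideal.Quotient.mk_surjective (h t - Ideal.Quotient.mk IS s)
        have hs'm : s' ∈ maximalIdeal S := by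
          rw [mem_maximalIdeal, mem_nonunits_iff]
          intro hu
          have hu' := hu.map (Ideal.Quotient.mk IS)
          rw [hs'] at hu'
          exact (mem_maximalIdeal _).mp h2 hu'
        have h3 : gbar (h t - Ideal.Quotient.mk IS s) ∈ maximalIdeal (T ⧸ IT) := by
          rw [← hs', hgbar]
          exact map_nonunit (Ideal.Quotient.mk IT) _ (map_nonunit g _ hs'm)
        have h4 : residue (T ⧸ IT) (gbar (h t)) =
            residue (T ⧸ IT) (Ideal.Quotient.mk IT (g s)) := by
          rw [← sub_eq_zero, ← map_sub, ← hgbar, ← map_sub, residue_eq_zero_iff]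
          exact h3
        change residue (T ⧸ IT) (gbar (h t)) = _
        rw [h4, ← hx, ResidueField.map_residue]
    · exact ⟨rfl, fun t => (ResidueField.map_residue _ t).symm⟩
  intro t
  obtain ⟨s, hs⟩ := Ideal.Quotient.mk_surjective (h t)
  refine ⟨s, ?_⟩
  rw [← Ideal.Quotient.eq, ← hgbar, hs, ← RingHom.comp_apply, hkey]

/-- Density for powers of the maximal ideals. -/
theorem shens_dense
    [Hensel.IsStrictHenselization A S] [Hensel.IsStrictHenselization B T]
    (g : S →+* T) [IsLocalHom g]
    (hg : g.comp (algebraMap A S) = (algebraMap B T).comp (algebraMap A B))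
    (hmB : (maximalIdeal A).map (algebraMap A B) = maximalIdeal B)
    (hdense : ∀ (N : ℕ) (b : B), ∃ a : A, b - algebraMap A B a ∈ maximalIdeal B ^ N)
    (hr : ∀ N : ℕ, ∃ r : B →+* A ⧸ maximalIdeal A ^ N,
      r.comp (algebraMap A B) = Ideal.Quotient.mk _) :
    ∀ (N : ℕ) (t : T), ∃ s : S, t - g s ∈ maximalIdeal T ^ N := by
  intro N t
  rcases Nat.eq_zero_or_pos N with hN | hN
  · subst hN
    exact ⟨0, by simp⟩
  have hN0 : N ≠ 0 := Nat.pos_iff_ne_zero.mp hN
  have hIS : maximalIdeal S ^ N ≠ ⊤ := fun h =>
    (maximalIdeal.isMaximal S).ne_top (top_le_iff.mp (h ▸ Ideal.pow_le_self hN0))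
  have hIT : maximalIdeal T ^ N ≠ ⊤ := fun h =>
    (maximalIdeal.isMaximal T).ne_top (top_le_iff.mp (h ▸ Ideal.pow_le_self hN0))
  haveI : HenselianLocalRing S := Hensel.IsStrictHenselization.henselian (R := A)
  haveI hSN : HenselianLocalRing (S ⧸ maximalIdeal S ^ N) :=
    henselianLocalRing_quotient S _ hIS
  haveI hπS : IsLocalHom (Ideal.Quotient.mk (maximalIdeal S ^ N)) :=
    isLocalHom_quotient_mk S _ hIS
  have hmapg : (maximalIdeal S).map g ≤ maximalIdeal T :=
    Ideal.map_le_iff_le_comap.mpr (fun a ha => map_nonunit g a ha)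
  have hmapAS : (maximalIdeal A).map (algebraMap A S) ≤ maximalIdeal S :=
    Ideal.map_le_iff_le_comap.mpr (fun a ha => map_nonunit (algebraMap A S) a ha)
  have hmapBT : (maximalIdeal B).map (algebraMap B T) ≤ maximalIdeal T :=
    Ideal.map_le_iff_le_comap.mpr (fun a ha => map_nonunit (algebraMap B T) a ha)
  have hST : maximalIdeal S ^ N ≤ (maximalIdeal T ^ N).comap g := by
    rw [← Ideal.map_le_iff_le_comap, Ideal.map_pow]
    exact Ideal.pow_right_mono hmapg N
  have hBT : maximalIdeal B ^ N ≤ (maximalIdeal T ^ N).comap (algebraMap B T) := by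
    rw [← Ideal.map_le_iff_le_comap, Ideal.map_pow]
    exact Ideal.pow_right_mono hmapBT N
  have hAS : maximalIdeal A ^ N ≤ (maximalIdeal S ^ N).comap (algebraMap A S) := by
    rw [← Ideal.map_le_iff_le_comap, Ideal.map_pow]
    exact Ideal.pow_right_mono hmapAS N
  obtain ⟨r, hr⟩ := hr N
  let f : B →+* S ⧸ maximalIdeal S ^ N :=
    (Ideal.quotientMap (maximalIdeal S ^ N) (algebraMap A S) hAS).comp r
  have hf1 : f.comp (algebraMap A B) =
      (Ideal.Quotient.mk (maximalIdeal S ^ N)).comp (algebraMap A S) := by
    change ((Ideal.quotientMap (maximalIdeal S ^ N) (algebraMap A S) hAS).comp r).comp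
      (algebraMap A B) = _
    rw [RingHom.comp_assoc, hr, Ideal.quotientMap_comp_mk]
  have hfa : ∀ a : A, f (algebraMap A B a) =
      Ideal.Quotient.mk (maximalIdeal S ^ N) (algebraMap A S a) := fun a => by
    rw [← RingHom.comp_apply, hf1]
    rfl
  refine exists_sub_mem g hg (maximalIdeal S ^ N) (maximalIdeal T ^ N) (maximalIdeal B ^ N)
    hIS hIT hST hBT (Ideal.pow_le_self hN0) (hdense N) f hf1 ?_ ?_ t
  · have hle : maximalIdeal B ^ N ≤ RingHom.ker f := by
      rw [← hmB, ← Ideal.map_pow, Ideal.map_le_iff_le_comap]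
      intro a ha
      rw [Ideal.mem_comap, RingHom.mem_ker, hfa, Ideal.Quotient.eq_zero_iff_mem]
      exact hAS ha
    exact fun b hb => hle hb
  · have hle : maximalIdeal B ≤ (maximalIdeal (S ⧸ maximalIdeal S ^ N)).comap f := by
      rw [← hmB, Ideal.map_le_iff_le_comap]
      intro a ha
      rw [Ideal.mem_comap, Ideal.mem_comap, hfa]
      exact map_nonunit (Ideal.Quotient.mk (maximalIdeal S ^ N)) _
        (map_nonunit (algebraMap A S) a ha)
    exact fun b hb => (mem_maximalIdeal _).mp (hle hb)

end

end Groth.Agent.Lib.Helper14.Punct.SHDense
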