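import Mathlib
import Groth.Agent.Lib.Helper14.Punct.MinPrimeRel
import Groth.Agent.Lib.Helper14.Punct.SHDense
import Groth.Agent.Lib.Helper14.BrnchCompl
import Groth.Agent.Lib.Helper18.PopA
import Groth.Agent.S0543
import Groth.Agent.Lib.Helper14.StrictEquidim

/-!
# Immediate étale generizations: comparison between a local ring and its completion (helper14)
-/

set_option autoImplicit false
universe u

namespace Groth.Agent.Lib.Helper14.Punct

open IsLocalRing

section abstract

variable {A B S T : Type u} [CommRing A] [CommRing B] [CommRing S] [HenselianLocalRing S]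
  [IsNoetherianRing S] [CommRing T] [IsLocalRing T] [IsNoetherianRing T]
  [Algebra A B] [Algebra A S] [Algebra B T] [Algebra S T] [Algebra A T]
  [IsScalarTower A B T] [IsScalarTower A S T]
  [Module.FaithfullyFlat S T] [Module.Flat B T]

theorem immediate_iff
    (hm : (maximalIdeal S).map (algebraMap S T) = maximalIdeal T)
    (hdense : ∀ (N : ℕ) (a : T), ∃ s : S, a - algebraMap S T s ∈ maximalIdeal T ^ N)
    (p : Ideal A) :
    (∃ P ∈ (p.map (algebraMap A S)).minimalPrimes, ringKrullDim (S ⧸ P) = 1) ↔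
    (∃ q ∈ (p.map (algebraMap A B)).minimalPrimes,
      ∃ Q ∈ (q.map (algebraMap B T)).minimalPrimes, ringKrullDim (T ⧸ Q) = 1) := by
  have hJ1 : (p.map (algebraMap A S)).map (algebraMap S T) = p.map (algebraMap A T) := by
    rw [Ideal.map_map, ← IsScalarTower.algebraMap_eq]
  have hJ2 : (p.map (algebraMap A B)).map (algebraMap B T) = p.map (algebraMap A T) := by
    rw [Ideal.map_map, ← IsScalarTower.algebraMap_eq]
  constructor
  · rintro ⟨P, hP, hdimP⟩
    haveI hPp : P.IsPrime := hP.1.1
    have hPne : P ≠ ⊤ := hPp.ne_top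
    have hPT : P.map (algebraMap S T) ≠ ⊤ := by
      intro h
      apply hPne
      rw [← Ideal.comap_map_eq_self_of_faithfullyFlat (B := T) P, h, Ideal.comap_top]
    obtain ⟨M, hM, hPM⟩ := Ideal.exists_le_maximal _ hPT
    haveI := hM.isPrime
    obtain ⟨Q, hQ, -⟩ := Ideal.exists_minimalPrimes_le hPM
    haveI hQp : Q.IsPrime := hQ.1.1
    have hcomQ : Q.comap (algebraMap S T) = P := comap_eq_of_mem_minimalPrimes_map P hQ
    have hd1 : ringKrullDim (T ⧸ P.map (algebraMap S T)) = 1 :=
      (ringKrullDim_quotient_map_eq hm P hPne).trans hdimP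
    have hd2 : ringKrullDim (T ⧸ Q) ≤ 1 := by
      rw [← hd1]
      exact ringKrullDim_le_of_surjective (Ideal.Quotient.factor hQ.1.2)
        (Ideal.Quotient.factor_surjective _)
    have hd3 : ¬ ringKrullDim (T ⧸ Q) ≤ 0 := by
      intro hle
      haveI : Ring.KrullDimLE 0 (T ⧸ Q) := Ring.krullDimLE_iff.2 (by simpa using hle)
      have hfield : IsField (T ⧸ Q) := Ring.KrullDimLE.isField_of_isDomain
      have hQmax : Q.IsMaximal := Ideal.Quotient.maximal_of_isField Q hfield
      have hQeq : Q = maximalIdeal T := IsLocalRing.eq_maximalIdeal hQmax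
      have hPeq : P = maximalIdeal S := by
        rw [← hcomQ, hQeq, IsLocalRing.maximalIdeal_comap]
      have hf : IsField (S ⧸ P) := by
        rw [← Ideal.Quotient.maximal_ideal_iff_isField_quotient, hPeq]
        infer_instance
      have := ringKrullDim_eq_zero_of_isField hf
      rw [hdimP] at this
      exact one_ne_zero this
    have hdQ : ringKrullDim (T ⧸ Q) = 1 :=
      le_antisymm hd2 (Groth.Agent.Lib.Helper14.StrictEquidim.one_le_of_not_le_zero hd3)
    have hQJ : Q ∈ (p.map (algebraMap A T)).minimalPrimes := by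
      refine ⟨⟨hQp, ?_⟩, fun Q'' ⟨hQ''p, hJQ''⟩ hle => ?_⟩
      · rw [← hJ1]
        exact (Ideal.map_mono hP.1.2).trans hQ.1.2
      · haveI := hQ''p
        have h1 : p.map (algebraMap A S) ≤ Q''.comap (algebraMap S T) := by
          rw [← Ideal.map_le_iff_le_comap, hJ1]
          exact hJQ''
        have h2 : Q''.comap (algebraMap S T) ≤ P := hcomQ ▸ Ideal.comap_mono hle
        have h3 : P ≤ Q''.comap (algebraMap S T) := hP.2 ⟨Ideal.comap_isPrime _ _, h1⟩ h2
        exact hQ.2 ⟨hQ''p, Ideal.map_le_iff_le_comap.mpr h3⟩ hle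
    have hq : Q.comap (algebraMap B T) ∈ (p.map (algebraMap A B)).minimalPrimes :=
      comap_mem_minimalPrimes_of_mem_minimalPrimes_map (p.map (algebraMap A B)) (hJ2 ▸ hQJ)
    refine ⟨Q.comap (algebraMap B T), hq, Q, ?_, hdQ⟩
    refine ⟨⟨hQp, Ideal.map_comap_le⟩, fun Q'' ⟨hQ''p, hle1⟩ hle => ?_⟩
    refine hQJ.2 ⟨hQ''p, ?_⟩ hle
    rw [← hJ2]
    exact (Ideal.map_mono hq.1.2).trans hle1
  · rintro ⟨q, hq, Q, hQ, hdimQ⟩
    haveI hqp : q.IsPrime := hq.1.1
    haveI hQp : Q.IsPrime := hQ.1.1
    have hcomq : Q.comap (algebraMap B T) = q := comap_eq_of_mem_minimalPrimes_map q hQ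
    have hQJ : Q ∈ (p.map (algebraMap A T)).minimalPrimes := by
      refine ⟨⟨hQp, ?_⟩, fun Q'' ⟨hQ''p, hJQ''⟩ hle => ?_⟩
      · rw [← hJ2]
        exact (Ideal.map_mono hq.1.2).trans hQ.1.2
      · haveI := hQ''p
        have h1 : p.map (algebraMap A B) ≤ Q''.comap (algebraMap B T) := by
          rw [← Ideal.map_le_iff_le_comap, hJ2]
          exact hJQ''
        have h2 : Q''.comap (algebraMap B T) ≤ q := hcomq ▸ Ideal.comap_mono hle
        have h3 : q ≤ Q''.comap (algebraMap B T) := hq.2 ⟨Ideal.comap_isPrime _ _, h1⟩ h2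
        exact hQ.2 ⟨hQ''p, Ideal.map_le_iff_le_comap.mpr h3⟩ hle
    obtain ⟨P, hPdef⟩ : ∃ P : Ideal S, P = Q.comap (algebraMap S T) := ⟨_, rfl⟩
    have hP : P ∈ (p.map (algebraMap A S)).minimalPrimes := by
      rw [hPdef]
      exact comap_mem_minimalPrimes_of_mem_minimalPrimes_map _ (hJ1 ▸ hQJ)
    haveI hPp : P.IsPrime := hP.1.1
    have hQP : Q ∈ ((Q.comap (algebraMap S T)).map (algebraMap S T)).minimalPrimes := by
      refine ⟨⟨hQp, Ideal.map_comap_le⟩, fun Q'' ⟨hQ''p, hle1⟩ hle => hQJ.2 ⟨hQ''p, ?_⟩ hle⟩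
      rw [← hJ1]
      refine (Ideal.map_mono ?_).trans hle1
      rw [← hPdef]
      exact hP.1.2
    have hrad := radical_map_comap_eq hm hdense Q hQP hdimQ
    refine ⟨P, hP, ?_⟩
    rw [← ringKrullDim_quotient_map_eq hm P hPp.ne_top, ← ringKrullDim_quotient_radical, hPdef,
      hrad, hdimQ]

end abstract

section completion

variable (A : Type u) [CommRing A] [IsLocalRing A] [IsNoetherianRing A]


/-- Density of `A` in its completion. -/
theorem completion_dense (N : ℕ) (b : (AdicCompletion (maximalIdeal A) A)) :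
    ∃ a : A, b - algebraMap A (AdicCompletion (maximalIdeal A) A) a ∈ maximalIdeal (AdicCompletion (maximalIdeal A) A) ^ N := by
  obtain ⟨r, hr⟩ := Ideal.Quotient.mk_surjective (AdicCompletion.evalₐ (maximalIdeal A) N b)
  refine ⟨r, ?_⟩
  rw [AdicCompletion.maximalIdeal_eq_map, ← Ideal.map_pow]
  apply Groth.Agent.Lib.Helper18.DR.Pop.mem_map_pow_of_evalₐ_eq_zero _
    (IsNoetherian.noetherian _)
  rw [map_sub, ← hr, sub_eq_zero]
  simp

variable (S' T' : Type u) [CommRing S'] [IsLocalRing S'] [Algebra A S']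
  [IsLocalHom (algebraMap A S')] [Hensel.IsStrictHenselization A S']
  [CommRing T'] [IsLocalRing T'] [Algebra (AdicCompletion (maximalIdeal A) A) T'] [IsLocalHom (algebraMap (AdicCompletion (maximalIdeal A) A) T')]
  [Hensel.IsStrictHenselization (AdicCompletion (maximalIdeal A) A) T']

/-- The comparison map between strict henselizations of `A` and of its completion. -/
theorem exists_map_shens_completion :
    ∃ g : S' →+* T', g.comp (algebraMap A S') = (algebraMap (AdicCompletion (maximalIdeal A) A) T').comp (algebraMap A (AdicCompletion (maximalIdeal A) A)) ∧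
      IsLocalHom g ∧ (letI := g.toAlgebra; Module.FaithfullyFlat S' T') ∧
      (maximalIdeal S').map g = maximalIdeal T' ∧
      ∀ (N : ℕ) (t : T'), ∃ s : S', t - g s ∈ maximalIdeal T' ^ N := by
  haveI hNC : IsNoetherianRing (AdicCompletion (maximalIdeal A) A) := Groth.Agent.S0543.result A _
  obtain ⟨g, hg, hgloc, hff⟩ :=
    Groth.Agent.Lib.Helper14.BrnchCompl.exists_strictHenselization_map A (AdicCompletion (maximalIdeal A) A) S' T'
  refine ⟨g, hg, hgloc, hff, ?_, ?_⟩
  · have hmS := Groth.Agent.Lib.Helper8.Hzl.strictHenselization_map_maximalIdeal A S'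
    have hmT := Groth.Agent.Lib.Helper8.Hzl.strictHenselization_map_maximalIdeal (AdicCompletion (maximalIdeal A) A) T'
    rw [← hmS, Ideal.map_map, hg, ← hmT, AdicCompletion.maximalIdeal_eq_map, Ideal.map_map]
  · exact Groth.Agent.Lib.Helper14.Punct.SHDense.shens_dense g hg
      AdicCompletion.maximalIdeal_eq_map.symm (completion_dense A)
      (fun N => ⟨(AdicCompletion.evalₐ (maximalIdeal A) N).toRingHom,
        (AdicCompletion.evalₐ (maximalIdeal A) N).comp_algebraMap⟩)

end completion

end Groth.Agent.Lib.Helper14.Punct
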