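import Mathlib
import Groth.Prelude
import Groth.Agent.Lib.Helper8.BranchCount
import Groth.Agent.Lib.Helper8.Hzl.Dim
import Groth.Agent.Lib.Helper12.IntegralDim

/-!
# Dimensions of the branches of a henselian ind-étale-like extension (helper14)

For a henselian local `A`-algebra `B`, flat and ind-étale-like over the local ring `A` (e.g. the
henselization or a strict henselization), the dimension of `B/P` for a minimal prime `P` equals
the dimension of the localization of the normalization `normRed A` at a corresponding maximal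
ideal.
-/

set_option autoImplicit false
universe u
open TensorProduct IsLocalRing

namespace Groth.Agent.Lib.Helper14.Punct.NormDim

open Groth.Agent.Lib.Helper8 Groth.Agent.Lib.Helper8.Hzl Groth.Agent.Lib.Helper8.UnibranchHens
  Groth.Agent.Lib.Helper8.NormRedTensor Groth.Agent.Lib.Helper8.BranchCount

/-- Incomparability for ind-étale-like algebras. -/
theorem eq_of_le_of_under_eq {R S : Type u} [CommRing R] [CommRing S] [Algebra R S]
    (h : IndEtaleLike R S) (P Q : Ideal S) [hP : P.IsPrime] [Q.IsPrime] (hPQ : P ≤ Q)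
    (hu : P.under R = Q.under R) : P = Q := by
  have h1 := h.map_under_eq_maximalIdeal Q
  have h2 : maximalIdeal (Localization.AtPrime Q) ≤
      P.map (algebraMap S (Localization.AtPrime Q)) := by
    rw [← h1, ← hu, IsScalarTower.algebraMap_eq R S (Localization.AtPrime Q), ← Ideal.map_map]
    apply Ideal.map_mono
    exact Ideal.map_comap_le
  have hdisj : Disjoint (Q.primeCompl : Set S) (P : Set S) := by
    rw [Set.disjoint_left]
    intro x hxQ hxP
    exact hxQ (hPQ hxP)
  have h3 : (P.map (algebraMap S (Localization.AtPrime Q))).under S = P :=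
    IsLocalization.under_map_of_isPrime_disjoint Q.primeCompl _ hP hdisj
  apply le_antisymm hPQ
  intro x hx
  rw [← h3, Ideal.under_def, Ideal.mem_comap]
  apply h2
  rw [IsLocalization.AtPrime.to_map_mem_maximal_iff (Localization.AtPrime Q) Q]
  exact hx

/-- Abstract dimension comparison: `B → T` integral, `q ≤ M` primes of `T` such that the primes
containing `q` are exactly the primes contained in `M`. -/
theorem dim_quotient_eq_dim_localization (B T : Type u) [CommRing B] [CommRing T] [Algebra B T]
    [Algebra.IsIntegral B T] (q M : Ideal T) [hqp : q.IsPrime] [hMp : M.IsPrime]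
    (h1 : ∀ Q : Ideal T, Q.IsPrime → q ≤ Q → Q ≤ M)
    (h2 : ∀ Q : Ideal T, Q.IsPrime → Q ≤ M → q ≤ Q) :
    ringKrullDim (B ⧸ q.under B) = ringKrullDim (Localization.AtPrime M) := by
  haveI : q.LiesOver (q.under B) := ⟨rfl⟩
  have d1 : ringKrullDim (B ⧸ q.under B) = ringKrullDim (T ⧸ q) :=
    le_antisymm
      (Groth.Agent.Lib.Helper12.ringKrullDim_le_of_isIntegral_of_injective
        (FaithfulSMul.algebraMap_injective _ _))
      Groth.Agent.Lib.Helper12.ringKrullDim_le_of_isIntegral
  have d2 : ringKrullDim (T ⧸ q) = ringKrullDim (Localization.AtPrime M) := by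
    rw [ringKrullDim_quotient, ringKrullDim, Order.krullDim_eq_of_orderIso
      (IsLocalization.AtPrime.primeSpectrumOrderIso (Localization.AtPrime M) M)]
    have hset : PrimeSpectrum.zeroLocus (q : Set T) =
        Set.Iic (⟨M, hMp⟩ : PrimeSpectrum T) := by
      ext Q
      rw [PrimeSpectrum.mem_zeroLocus, SetLike.coe_subset_coe, Set.mem_Iic,
        ← PrimeSpectrum.asIdeal_le_asIdeal]
      exact ⟨h1 Q.asIdeal Q.2, h2 Q.asIdeal Q.2⟩
    rw [hset]
  rw [d1, d2]

/-- Abstract: localizations of a flat ind-étale-like algebra have the same dimension as the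
corresponding localization of the base. -/
theorem dim_localization_eq (R T : Type u) [CommRing R] [CommRing T] [Algebra R T]
    [Module.Flat R T] (hind : IndEtaleLike R T) (M : Ideal T) [hMp : M.IsPrime] :
    ringKrullDim (Localization.AtPrime M) = ringKrullDim (Localization.AtPrime (M.under R)) := by
  letI := Localization.AtPrime.algebraOfLiesOver (M.under R) M
  haveI : IsLocalHom (algebraMap (Localization.AtPrime (M.under R))
      (Localization.AtPrime M)) := by
    rw [RingHom.algebraMap_toAlgebra]
    exact Localization.isLocalHom_localRingHom (M.under R) M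
      (algebraMap R T) Ideal.LiesOver.over
  haveI : Module.FaithfullyFlat (Localization.AtPrime (M.under R))
      (Localization.AtPrime M) := Module.FaithfullyFlat.of_flat_of_isLocalHom
  apply le_antisymm
  · apply Hzl.ringKrullDim_le_of_incomparable
    intro P Q _ _ hPQ hu
    have hindM : IndEtaleLike R (Localization.AtPrime M) :=
      indEtaleLike_localization hind M
    apply eq_of_le_of_under_eq hindM P Q hPQ
    rw [← Ideal.under_under (B := Localization.AtPrime (M.under R)) P, hu,
      Ideal.under_under]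
  · exact Hzl.ringKrullDim_le_of_faithfullyFlat

theorem dim_quotient_eq_dim_localization_under (R B T : Type u) [CommRing R] [CommRing B]
    [CommRing T] [Algebra R T] [Algebra B T] [Algebra.IsIntegral B T] [Module.Flat R T]
    (hind : IndEtaleLike R T) (q M : Ideal T) [hqp : q.IsPrime] [hMp : M.IsPrime]
    (h1 : ∀ Q : Ideal T, Q.IsPrime → q ≤ Q → Q ≤ M)
    (h2 : ∀ Q : Ideal T, Q.IsPrime → Q ≤ M → q ≤ Q) :
    ringKrullDim (B ⧸ q.under B) = ringKrullDim (Localization.AtPrime (M.under R)) := by
  rw [dim_quotient_eq_dim_localization B T q M h1 h2, dim_localization_eq R T hind M]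

section core

attribute [local instance] Algebra.TensorProduct.rightAlgebra

variable (A B : Type u) [CommRing A] [IsLocalRing A] [CommRing B] [HenselianLocalRing B]
  [Algebra A B] [IsLocalHom (algebraMap A B)] [Module.Flat A B]

theorem dim_core (hfin : (minimalPrimes A).Finite) (hind : IndEtaleLike A B)
    (q : Ideal (CAlg2.normRed A ⊗[A] B)) (hq : q ∈ minimalPrimes (CAlg2.normRed A ⊗[A] B))
    (M : Ideal (CAlg2.normRed A ⊗[A] B)) [hM : M.IsMaximal] (hqM : q ≤ M)
    (𝔭 : Ideal (CAlg2.normRed A)) [𝔭.IsPrime]
    (h𝔭 : 𝔭 = M.under (CAlg2.normRed A)) :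
    ringKrullDim (B ⧸ q.under B) = ringKrullDim (Localization.AtPrime 𝔭) := by
  subst h𝔭
  haveI hqp : q.IsPrime := hq.1.1
  haveI hMp : M.IsPrime := hM.isPrime
  haveI : Algebra.IsIntegral B (CAlg2.normRed A ⊗[A] B) :=
    isIntegral_right' A (CAlg2.normRed A) B
  apply dim_quotient_eq_dim_localization_under (CAlg2.normRed A) B (CAlg2.normRed A ⊗[A] B)
    (indEtaleLike_baseChange hind (CAlg2.normRed A)) q M
  · intro Q hQ hqQ
    obtain ⟨M', hM', hQM'⟩ := Ideal.exists_le_maximal Q hQ.ne_top
    have := (existsUnique_maximal_ge A B q hqp).unique ⟨hM', hqQ.trans hQM'⟩ ⟨hM, hqM⟩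
    rw [← this]
    exact hQM'
  · intro Q hQ hQM
    haveI := hQ
    obtain ⟨q', hq', hq'Q⟩ := Ideal.exists_minimalPrimes_le (I := ⊥) (J := Q) bot_le
    have := minimalPrime_unique_of_le A B hfin hind M hq' hq (hq'Q.trans hQM) hqM
    rw [← this]
    exact hq'Q

/-- Every minimal prime of `B` has the dimension of some local ring of the normalization. -/
theorem exists_max_of_minimalPrime (hfin : (minimalPrimes A).Finite) (hind : IndEtaleLike A B)
    (P : Ideal B) (hP : P ∈ minimalPrimes B) :
    ∃ m' : MaximalSpectrum (CAlg2.normRed A),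
      ringKrullDim (B ⧸ P) = ringKrullDim (Localization.AtPrime m'.asIdeal) := by
  obtain ⟨q, hq, hqP⟩ := (MinPrimeNorm.bijOn_normRed A B).surjOn hP
  haveI := (minToMax A B ⟨q, hq⟩).isMaximal
  have hle := le_minToMax A B ⟨q, hq⟩
  let m' : MaximalSpectrum (CAlg2.normRed A) :=
    maxToMax A (CAlg2.normRed A) B (minToMax A B ⟨q, hq⟩)
  haveI : m'.asIdeal.IsPrime := m'.isMaximal.isPrime
  refine ⟨m', ?_⟩
  have := dim_core A B hfin hind q hq (minToMax A B ⟨q, hq⟩).asIdeal hle m'.asIdeal rfl
  rw [← this]
  have hPq : q.under B = P := hqP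
  rw [hPq]

/-- Every local ring of the normalization has the dimension of some branch of `B`. -/
theorem exists_minimalPrime_of_max (hfin : (minimalPrimes A).Finite) (hind : IndEtaleLike A B)
    (m' : MaximalSpectrum (CAlg2.normRed A)) :
    ∃ P ∈ minimalPrimes B,
      ringKrullDim (B ⧸ P) = ringKrullDim (Localization.AtPrime m'.asIdeal) := by
  haveI := m'.isMaximal
  haveI : m'.asIdeal.IsPrime := m'.isMaximal.isPrime
  obtain ⟨M, hM, hMm⟩ := exists_maximal_comap_eq A (CAlg2.normRed A) B m'.asIdeal
  haveI := hM
  haveI := hM.isPrime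
  obtain ⟨q, hq, hqM⟩ := Ideal.exists_minimalPrimes_le (I := ⊥) (J := M) bot_le
  refine ⟨q.under B, (MinPrimeNorm.bijOn_normRed A B).mapsTo hq, ?_⟩
  exact dim_core A B hfin hind q hq M hqM m'.asIdeal hMm.symm

end core

end Groth.Agent.Lib.Helper14.Punct.NormDim
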