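import Mathlib
import Groth.Agent.Lib.Helper14.Punct.MinPrimeRel
import Groth.Agent.Lib.Helper14.Punct.DimOne
import Groth.Agent.Lib.Helper14.Punct.Immediate
import Groth.Agent.Lib.Helper14.Punct.NormDim
import Groth.Agent.Lib.Helper8.BranchCount

/-!
# The `c₂` condition: all branches of dimension at least two (helper14)
-/

set_option autoImplicit false
universe u

namespace Groth.Agent.Lib.Helper14.Punct

open IsLocalRing

lemma two_le_of_not_le_one {x : WithBot ℕ∞} (h : ¬ x ≤ 1) : 2 ≤ x := by
  induction x using WithBot.recBotCoe with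
  | bot => exact absurd bot_le h
  | coe a =>
    have h1 : ¬ a ≤ 1 := by
      intro h'
      apply h
      exact_mod_cast h'
    have h2 : 2 ≤ a := by
      induction a using ENat.recTopCoe with
      | top => exact le_top
      | coe n =>
        have h3 : ¬ n ≤ 1 := by
          intro h'
          apply h1
          exact_mod_cast h'
        have h4 : 2 ≤ n := by omega
        exact_mod_cast h4
    have h5 : ((2 : ℕ∞) : WithBot ℕ∞) ≤ (a : WithBot ℕ∞) := WithBot.coe_le_coe.mpr h2
    exact h5

section pair

variable {S T : Type u} [CommRing S] [HenselianLocalRing S] [IsNoetherianRing S]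
  [CommRing T] [IsLocalRing T] [IsNoetherianRing T] [Algebra S T] [Module.FaithfullyFlat S T]

/-- All branches of `S` have dimension `≥ 2` iff all branches of `T` do. -/
theorem forall_two_le_dim_iff
    (hm : (maximalIdeal S).map (algebraMap S T) = maximalIdeal T)
    (hdense : ∀ (N : ℕ) (a : T), ∃ s : S, a - algebraMap S T s ∈ maximalIdeal T ^ N) :
    (∀ P ∈ minimalPrimes S, (2 : WithBot ℕ∞) ≤ ringKrullDim (S ⧸ P)) ↔
      (∀ Q ∈ minimalPrimes T, (2 : WithBot ℕ∞) ≤ ringKrullDim (T ⧸ Q)) := by
  constructor
  · intro h Q hQ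
    haveI hQp : Q.IsPrime := hQ.1.1
    have hP := comap_mem_minimalPrimes_of_flat (S := S) hQ
    haveI hPp : (Q.comap (algebraMap S T)).IsPrime := hP.1.1
    have h2 := h _ hP
    apply two_le_of_not_le_one
    intro hle1
    by_cases hle0 : ringKrullDim (T ⧸ Q) ≤ 0
    · haveI : Ring.KrullDimLE 0 (T ⧸ Q) := Ring.krullDimLE_iff.2 (by simpa using hle0)
      have hfield : IsField (T ⧸ Q) := Ring.KrullDimLE.isField_of_isDomain
      have hQmax : Q.IsMaximal := Ideal.Quotient.maximal_of_isField Q hfield
      have hQeq : Q = maximalIdeal T := IsLocalRing.eq_maximalIdeal hQmax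
      have hPeq : Q.comap (algebraMap S T) = maximalIdeal S := by
        rw [hQeq, IsLocalRing.maximalIdeal_comap]
      have hf : IsField (S ⧸ Q.comap (algebraMap S T)) := by
        rw [← Ideal.Quotient.maximal_ideal_iff_isField_quotient, hPeq]
        infer_instance
      have := ringKrullDim_eq_zero_of_isField hf
      rw [this] at h2
      exact absurd h2 (by norm_num)
    · have hd : ringKrullDim (T ⧸ Q) = 1 :=
        le_antisymm hle1 (Groth.Agent.Lib.Helper14.StrictEquidim.one_le_of_not_le_zero hle0)
      have hQI : Q ∈ ((Q.comap (algebraMap S T)).map (algebraMap S T)).minimalPrimes :=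
        ⟨⟨hQp, Ideal.map_comap_le⟩, fun p ⟨hp, _⟩ hle => hQ.2 ⟨hp, bot_le⟩ hle⟩
      have hrad := radical_map_comap_eq hm hdense Q hQI hd
      have hdS : ringKrullDim (S ⧸ Q.comap (algebraMap S T)) = 1 := by
        rw [← ringKrullDim_quotient_map_eq hm _ hPp.ne_top, ← ringKrullDim_quotient_radical,
          hrad, hd]
      rw [hdS] at h2
      exact absurd h2 (by norm_num)
  · intro h P hP
    haveI hPp : P.IsPrime := hP.1.1
    obtain ⟨Q, hQ, hQP⟩ :=
      Groth.Agent.Lib.Helper8.BranchCount.exists_minimalPrime_comap_eq S T P hP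
    have h2 := h Q hQ
    have hle : P.map (algebraMap S T) ≤ Q := by
      rw [Ideal.map_le_iff_le_comap, hQP]
    rw [← ringKrullDim_quotient_map_eq hm P hPp.ne_top]
    exact h2.trans (ringKrullDim_le_of_surjective (Ideal.Quotient.factor hle)
      (Ideal.Quotient.factor_surjective _))

end pair

section hens

variable (A : Type u) [CommRing A] [IsLocalRing A] [IsNoetherianRing A]
  (S : Type u) [CommRing S] [IsLocalRing S] [Algebra A S] [IsLocalHom (algebraMap A S)]

/-- Branch dimensions of the henselization versus the completion. -/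
theorem forall_two_le_dim_henselization_iff_completion [Hensel.IsHenselization A S] :
    (∀ P ∈ minimalPrimes S, (2 : WithBot ℕ∞) ≤ ringKrullDim (S ⧸ P)) ↔
      (∀ Q ∈ minimalPrimes (AdicCompletion (maximalIdeal A) A),
        (2 : WithBot ℕ∞) ≤ ringKrullDim (AdicCompletion (maximalIdeal A) A ⧸ Q)) := by
  haveI hNC : IsNoetherianRing (AdicCompletion (maximalIdeal A) A) :=
    Groth.Agent.S0543.result A _
  obtain ⟨ψ, hψ, -⟩ := (Hensel.IsHenselization.universal (R := A) (S := S)
    (AdicCompletion (maximalIdeal A) A)
    (algebraMap A (AdicCompletion (maximalIdeal A) A)) inferInstance)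
  haveI hSh : HenselianLocalRing S := Hensel.IsHenselization.henselian (R := A)
  haveI : IsNoetherianRing S :=
    (Groth.Agent.Lib.Helper8.Hzl.henselization_isNoetherianRing_iff A S).mp inferInstance
  obtain ⟨hloc, hff⟩ := Groth.Agent.Lib.Helper14.BrnchCompl.hens_to_completion A S ψ hψ
  letI := ψ.toAlgebra
  haveI : Module.FaithfullyFlat S (AdicCompletion (maximalIdeal A) A) := hff
  have hmS := Groth.Agent.Lib.Helper8.Hzl.henselization_map_maximalIdeal A S
  have hm : (maximalIdeal S).map (algebraMap S (AdicCompletion (maximalIdeal A) A)) =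
      maximalIdeal (AdicCompletion (maximalIdeal A) A) := by
    rw [← hmS, Ideal.map_map, AdicCompletion.maximalIdeal_eq_map]
    congr 1
  have hdense : ∀ (N : ℕ) (a : AdicCompletion (maximalIdeal A) A), ∃ s : S,
      a - algebraMap S (AdicCompletion (maximalIdeal A) A) s ∈
        maximalIdeal (AdicCompletion (maximalIdeal A) A) ^ N := by
    intro N a
    obtain ⟨r, hr⟩ := completion_dense A N a
    refine ⟨algebraMap A S r, ?_⟩
    have h1 : algebraMap S (AdicCompletion (maximalIdeal A) A) (algebraMap A S r) =
        algebraMap A (AdicCompletion (maximalIdeal A) A) r := by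
      show ψ (algebraMap A S r) = _
      rw [← RingHom.comp_apply, hψ]
    rw [h1]
    exact hr
  exact forall_two_le_dim_iff hm hdense

end hens

end Groth.Agent.Lib.Helper14.Punct
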